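import Groth.Agent.DispLib.Basic

/-! # Base change of 3n-displays -/

universe u v

noncomputable section

namespace Groth.Agent.DispLib.DispBC

open WittVector W4c1extbt610

variable {p : ℕ} [hp : Fact p.Prime] {S R : Type u} [CommRing S] [CommRing R] (f : S →+* R)
variable {P : Type v} [AddCommGroup P] [Module (WittVector p S) P]

local notation "φ" => (WittVector.map f : WittVector p S →+* WittVector p R)
local notation "σR" => (WittVector.frobenius : WittVector p R →+* WittVector p R)
local notation "σS" => (WittVector.frobenius : WittVector p S →+* WittVector p S)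
local notation "PR" => Dieu.BC (WittVector.map f : WittVector p S →+* WittVector p R) P

theorem frobenius_map (a : WittVector p S) : σR (φ a) = φ (σS a) :=
  ((WittVector.frobenius_isPoly p).map f a).symm

theorem map_mem_IV {a : WittVector p S} (ha : a ∈ IV p S) : φ a ∈ IV p R := by
  rw [mem_IV_iff] at ha ⊢
  change f (WittVector.constantCoeff a) = 0
  rw [ha, map_zero]

/-- The base change of a Frobenius-semilinear endomorphism. -/
def semi (G : P →ₛₗ[σS] P) : PR →ₛₗ[σR] PR where
  toFun z := Dieu.BC.lift ((σR).comp φ)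
    ({ toFun := fun x => Dieu.BC.tmul φ 1 (G x)
       map_add' := fun x y => by rw [map_add, Dieu.BC.tmul_add]
       map_smul' := fun a x => by
         rw [LinearMap.map_smulₛₗ, ← Dieu.BC.tmul_apply_eq, Dieu.BC.tmul_eq_smul_tmul_one, RingHom.comp_apply,
           frobenius_map f] } : P →ₛₗ[(σR).comp φ] PR)
    (Dieu.BC.push φ σR z)
  map_add' x y := by rw [map_add, map_add]
  map_smul' c z := by rw [LinearMap.map_smulₛₗ (Dieu.BC.push φ σR), map_smul]

theorem semi_tmul (G : P →ₛₗ[σS] P) (b : WittVector p R) (x : P) :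
    semi f G (Dieu.BC.tmul φ b x) = Dieu.BC.tmul φ (σR b) (G x) := by
  show Dieu.BC.lift ((σR).comp φ) _ (Dieu.BC.push φ σR (Dieu.BC.tmul φ b x)) = _
  rw [Dieu.BC.push_tmul, Dieu.BC.lift_tmul]
  show σR b • Dieu.BC.tmul φ 1 (G x) = _
  rw [Dieu.BC.smul_tmul, mul_one]

/-- Coordinates. -/
def coord {n : ℕ} (s : P →ₗ[WittVector p S] (Fin n → WittVector p S)) (i : Fin n) : PR →ₗ[WittVector p R] WittVector p R :=
  Dieu.BC.lift φ
    ({ toFun := fun x => φ (s x i)
       map_add' := fun x y => by rw [map_add, Pi.add_apply, map_add]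
       map_smul' := fun a x => by rw [map_smul, Pi.smul_apply, smul_eq_mul, map_mul, smul_eq_mul] } :
      P →ₛₗ[φ] WittVector p R)

theorem coord_tmul {n : ℕ} (s : P →ₗ[WittVector p S] (Fin n → WittVector p S)) (i : Fin n) (b : WittVector p R) (x : P) :
    coord f s i (Dieu.BC.tmul φ b x) = b * φ (s x i) := by
  rw [coord, Dieu.BC.lift_tmul]; rfl

theorem sum_coord {n : ℕ} (s : P →ₗ[WittVector p S] (Fin n → WittVector p S)) (e : Fin n → P)
    (hse : ∀ x, ∑ i, s x i • e i = x) (z : PR) : ∑ i, coord f s i z • Dieu.BC.tmul φ 1 (e i) = z := by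
  induction z using Dieu.BC.induction_on with
  | zero => simp
  | tmul b x =>
    conv_rhs => rw [← hse x, Dieu.BC.tmul_eq_smul_tmul_one]
    rw [← Dieu.BC.ι_apply, map_sum, Finset.smul_sum]
    refine Finset.sum_congr rfl fun i _ => ?_
    rw [coord_tmul, Dieu.BC.ι_apply, ← Dieu.BC.tmul_apply_eq, Dieu.BC.smul_tmul, Dieu.BC.smul_tmul, mul_one]
  | add z₁ z₂ h₁ h₂ => simp only [map_add, add_smul, Finset.sum_add_distrib, h₁, h₂]

theorem shift_verschiebung {T : Type u} [CommRing T] (w : WittVector p T) : (WittVector.verschiebung w).shift 1 = w :=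
  WittVector.ext fun k => by rw [WittVector.shift_coeff, add_comm, WittVector.verschiebung_coeff_succ]

/-- `ψ (V w • z) = w • G z`. -/
def div {n : ℕ} (s : P →ₗ[WittVector p S] (Fin n → WittVector p S)) (e : Fin n → P) (G : PR →ₛₗ[σR] PR)
    (z : PR) : PR :=
  ∑ i, (coord f s i z).shift 1 • G (Dieu.BC.tmul φ 1 (e i))

theorem coord_mem {n : ℕ} (s : P →ₗ[WittVector p S] (Fin n → WittVector p S)) (i : Fin n) {z : PR}
    (hz : z ∈ IV p R • (⊤ : Submodule (WittVector p R) PR)) : coord f s i z ∈ IV p R := by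
  refine Submodule.smul_induction_on hz (fun a ha y _ => ?_) fun a b ha hb => by rw [map_add]; exact add_mem ha hb
  rw [map_smul]
  exact Ideal.mul_mem_right _ _ ha

theorem div_add {n : ℕ} (s : P →ₗ[WittVector p S] (Fin n → WittVector p S)) (e : Fin n → P) (G : PR →ₛₗ[σR] PR)
    {a b : PR} (ha : a ∈ IV p R • (⊤ : Submodule (WittVector p R) PR)) (hb : b ∈ IV p R • (⊤ : Submodule (WittVector p R) PR)) :
    div f s e G (a + b) = div f s e G a + div f s e G b := by
  rw [div, div, div, ← Finset.sum_add_distrib]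
  refine Finset.sum_congr rfl fun i _ => ?_
  obtain ⟨u, hu⟩ := exists_verschiebung_eq (coord_mem f s i ha)
  obtain ⟨v, hv⟩ := exists_verschiebung_eq (coord_mem f s i hb)
  rw [map_add, hu, hv, ← map_add, shift_verschiebung, shift_verschiebung, shift_verschiebung, add_smul]

theorem div_smul {n : ℕ} (s : P →ₗ[WittVector p S] (Fin n → WittVector p S)) (e : Fin n → P) (G : PR →ₛₗ[σR] PR)
    (c : WittVector p R) {a : PR} (ha : a ∈ IV p R • (⊤ : Submodule (WittVector p R) PR)) :
    div f s e G (c • a) = σR c • div f s e G a := by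
  rw [div, div, Finset.smul_sum]
  refine Finset.sum_congr rfl fun i _ => ?_
  obtain ⟨u, hu⟩ := exists_verschiebung_eq (coord_mem f s i ha)
  rw [map_smul, smul_eq_mul, hu, mul_comm, ← WittVector.verschiebung_mul_frobenius, shift_verschiebung,
    shift_verschiebung, mul_comm, mul_smul]

theorem div_verschiebung {n : ℕ} (s : P →ₗ[WittVector p S] (Fin n → WittVector p S)) (e : Fin n → P)
    (hse : ∀ x, ∑ i, s x i • e i = x) (G : PR →ₛₗ[σR] PR) (w : WittVector p R) (z : PR) :
    div f s e G (WittVector.verschiebung w • z) = w • G z := by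
  conv_rhs => rw [← sum_coord f s e hse z, map_sum, Finset.smul_sum]
  refine Finset.sum_congr rfl fun i _ => ?_
  rw [map_smul, smul_eq_mul, ← WittVector.verschiebung_mul_frobenius, shift_verschiebung, LinearMap.map_smulₛₗ, mul_smul]

theorem display_ext {T : Type u} [CommRing T] {M : Type*} [AddCommGroup M] [Module (WittVector p T) M]
    {D₁ D₂ : Display3n p T M} (hQ : D₁.Q = D₂.Q) (hF : D₁.F = D₂.F)
    (hV : ∀ (x : M) (h₁ : x ∈ D₁.Q) (h₂ : x ∈ D₂.Q), D₁.Vinv ⟨x, h₁⟩ = D₂.Vinv ⟨x, h₂⟩) : D₁ = D₂ := by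
  rcases D₁ with ⟨Q₁, F₁, V₁⟩
  rcases D₂ with ⟨Q₂, F₂, V₂⟩
  subst hQ hF
  have : V₁ = V₂ := LinearMap.ext fun x => hV x.1 x.2 x.2
  subst this
  rfl

/-- The base change of a 3n-display exists, is unique, and its `Q` is generated by the images of `Q` and `I P`. -/
theorem exists_spec (D : Display3n p S P) : ∃ DR : Display3n p R PR, Dieu.IsDispBaseChange f D DR ∧
    (∀ D' : Display3n p R PR, Dieu.IsDispBaseChange f D D' → D' = DR) ∧
    DR.Q ≤ Submodule.span (WittVector p R) (Set.range fun y : D.Q => Dieu.BC.tmul φ 1 (y : P)) ⊔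
      IV p R • (⊤ : Submodule (WittVector p R) PR) := by
  classical
  haveI := D.finite
  haveI := D.projective
  obtain ⟨L, T, hLT, hQ⟩ := D.exists_normal
  have hLQ : L ≤ D.Q := hQ.ge.trans' le_sup_left
  obtain ⟨n, π, hπ⟩ := Module.Finite.exists_fin' (WittVector p S) P
  obtain ⟨s, hs⟩ := Module.projective_lifting_property π LinearMap.id hπ
  let e : Fin n → P := fun i => π (Pi.single i 1)
  have hse : ∀ x, ∑ i, s x i • e i = x := fun x => by
    conv_rhs => rw [← show π (s x) = x from LinearMap.congr_fun hs x, pi_eq_sum_univ' (s x)]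
    simp [e]
  let pL : P →ₗ[WittVector p S] P := L.subtype.comp (L.projectionOnto T hLT)
  let pT : P →ₗ[WittVector p S] P := T.subtype.comp (T.projectionOnto L hLT.symm)
  have hsum : ∀ x, pL x + pT x = x := fun x => by
    show ((L.projectionOnto T hLT x : P) + (T.projectionOnto L hLT.symm x : P)) = x
    exact Submodule.projection_add_projection_eq_self hLT x
  have hpTQ : ∀ y ∈ D.Q, pT y ∈ IV p S • (⊤ : Submodule (WittVector p S) P) := by
    intro y hy
    obtain ⟨l, hl, z, hz, rfl⟩ := Submodule.mem_sup.1 (hQ ▸ hy)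
    have h0 : pT l = 0 := by
      show ((T.projectionOnto L hLT.symm (⟨l, hl⟩ : L)) : P) = 0
      rw [Submodule.projectionOnto_apply_right]; rfl
    rw [map_add, h0, zero_add]
    have h1 := Submodule.mem_map_of_mem (f := pT) hz
    rw [Submodule.map_smul''] at h1
    exact Submodule.smul_mono le_rfl le_top h1
  have hpLQ : ∀ x, pL x ∈ D.Q := fun x => hLQ (L.projectionOnto T hLT x).2
  let LR := Dieu.BC.map φ pL
  let TR := Dieu.BC.map φ pT
  have hsumR : ∀ z, LR z + TR z = z := fun z => by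
    induction z using Dieu.BC.induction_on with
    | zero => simp
    | tmul b x => rw [Dieu.BC.map_tmul, Dieu.BC.map_tmul, ← Dieu.BC.tmul_add, hsum]
    | add z₁ z₂ h₁ h₂ =>
      rw [map_add, map_add]
      conv_rhs => rw [← h₁, ← h₂]
      abel
  let GV : P →ₛₗ[σS] P :=
    { toFun := fun x => D.Vinv ⟨pL x, hpLQ x⟩
      map_add' := fun x y => by
        rw [← map_add D.Vinv]
        exact congrArg D.Vinv (Subtype.ext (map_add pL x y))
      map_smul' := fun a x => by
        rw [← LinearMap.map_smulₛₗ D.Vinv]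
        exact congrArg D.Vinv (Subtype.ext (map_smul pL a x)) }
  let FR := semi f D.F
  let QR : Submodule (WittVector p R) PR := LinearMap.ker (Dieu.bcQuotMap f D.Q)
  have hLR : ∀ z, LR z ∈ QR := fun z => by
    induction z using Dieu.BC.induction_on with
    | zero => rw [map_zero]; exact zero_mem _
    | tmul b x =>
      rw [Dieu.BC.map_tmul, LinearMap.mem_ker, Dieu.bcQuotMap_tmul,
        show D.Q.mkQ (pL x) = 0 from (Submodule.Quotient.mk_eq_zero _).2 (hpLQ x), Dieu.BC.tmul_zero]
    | add z₁ z₂ h₁ h₂ => rw [map_add]; exact add_mem h₁ h₂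
  have hIQ : IV p R • (⊤ : Submodule (WittVector p R) PR) ≤ QR := Submodule.smul_le.2 fun a ha z _ => by
    rw [LinearMap.mem_ker, LinearMap.map_smulₛₗ, (mem_IV_iff a).1 ha, zero_smul]
  let J := IV p R • (⊤ : Submodule (WittVector p R) PR)
  have hTR : ∀ q ∈ QR, TR q ∈ J := by
    intro q hq
    rw [← sum_coord f s e hse (TR q)]
    refine sum_mem fun i _ => Submodule.smul_mem_smul ?_ Submodule.mem_top
    let g := (WittVector.constantCoeff : WittVector p R →+* R).comp φ
    let μ₀ : P →ₛₗ[g] R :=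
      { toFun := fun x => WittVector.constantCoeff (φ (s (pT x) i))
        map_add' := fun x y => by simp only [map_add, Pi.add_apply]
        map_smul' := fun a x => by simp only [map_smul, Pi.smul_apply, smul_eq_mul, map_mul, g, RingHom.comp_apply] }
    let μ : (P ⧸ D.Q) →ₛₗ[g] R := Submodule.liftQ D.Q μ₀ fun y hy => by
      have h1 : s (pT y) i ∈ IV p S := by
        have h2 := Submodule.mem_map_of_mem (f := (LinearMap.proj i).comp s) (hpTQ y hy)
        rw [Submodule.map_smul''] at h2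
        refine Submodule.smul_induction_on (p := fun z => z ∈ IV p S) h2 (fun a ha b _ => ?_) fun a b ha hb => add_mem ha hb
        exact Ideal.mul_mem_right _ _ ha
      exact (mem_IV_iff _).1 (map_mem_IV f h1)
    have hcomp : ∀ z : PR, Dieu.BC.lift g μ (Dieu.bcQuotMap f D.Q z) = WittVector.constantCoeff (coord f s i (TR z)) := by
      intro z
      induction z using Dieu.BC.induction_on with
      | zero => simp
      | tmul b x =>
        rw [Dieu.bcQuotMap_tmul, Dieu.BC.lift_tmul, Dieu.BC.map_tmul, coord_tmul, map_mul]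
        rfl
      | add z₁ z₂ h₁ h₂ => simp only [map_add, h₁, h₂]
    rw [mem_IV_iff, ← hcomp, LinearMap.mem_ker.1 hq, map_zero]
  let G1 := semi f GV
  let Vinv : QR →ₛₗ[σR] PR :=
    { toFun := fun q => G1 q + div f s e FR (TR q)
      map_add' := fun a b => by
        rw [Submodule.coe_add, map_add, map_add, div_add f s e FR (hTR _ a.2) (hTR _ b.2)]
        abel
      map_smul' := fun c a => by
        rw [Submodule.coe_smul, LinearMap.map_smulₛₗ, map_smul, div_smul f s e FR c (hTR _ a.2), smul_add] }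
  have hFt : ∀ w x, FR (Dieu.BC.tmul φ w x) = Dieu.BC.tmul φ (σR w) (D.F x) := semi_tmul f D.F
  -- `Vinv (V w ⊗ x) = w ⊗ F x`
  have hVV : ∀ (w : WittVector p R) (x : P) (h : Dieu.BC.tmul φ (WittVector.verschiebung w) x ∈ QR),
      Vinv ⟨_, h⟩ = Dieu.BC.tmul φ w (D.F x) := by
    intro w x h
    show G1 _ + div f s e FR (TR _) = _
    rw [semi_tmul, Dieu.BC.map_tmul, Dieu.BC.tmul_eq_smul_tmul_one φ (WittVector.verschiebung w),
      div_verschiebung f s e hse, hFt, map_one, Dieu.BC.smul_tmul, mul_one, WittVector.frobenius_verschiebung]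
    have h1 : Dieu.BC.tmul φ (w * (p : WittVector p R)) (GV x) = Dieu.BC.tmul φ w (D.F (pL x)) := by
      rw [show (p : WittVector p R) = φ (p : WittVector p S) from (map_natCast _ p).symm, Dieu.BC.tmul_mul_apply,
        F_of_mem D ⟨pL x, hpLQ x⟩]
      rfl
    rw [h1, ← Dieu.BC.tmul_add, ← map_add, hsum]
  have hVt : ∀ (w : WittVector p R) (y : D.Q) (h : Dieu.BC.tmul φ w (y : P) ∈ QR),
      Vinv ⟨_, h⟩ = Dieu.BC.tmul φ (σR w) (D.Vinv y) := by
    intro w y h
    show G1 _ + div f s e FR (TR _) = _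
    have hIy : pT (y : P) ∈ D.Q := D.IV_smul_le (hpTQ _ y.2)
    have hdiv : div f s e FR (Dieu.BC.tmul φ 1 (pT (y : P))) = Dieu.BC.tmul φ 1 (D.Vinv ⟨pT (y : P), hIy⟩) := by
      have hJ : ∀ z ∈ IV p S • (⊤ : Submodule (WittVector p S) P), Dieu.BC.tmul φ 1 z ∈ J := fun z hz => by
        refine Submodule.smul_induction_on hz (fun a ha t _ => ?_) fun a b ha hb => by rw [Dieu.BC.tmul_add]; exact add_mem ha hb
        rw [← Dieu.BC.tmul_apply_eq, Dieu.BC.tmul_eq_smul_tmul_one]
        exact Submodule.smul_mem_smul (map_mem_IV f ha) Submodule.mem_top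
      suffices h : ∀ z ∈ IV p S • (⊤ : Submodule (WittVector p S) P), ∀ hz' : z ∈ D.Q,
          div f s e FR (Dieu.BC.tmul φ 1 z) = Dieu.BC.tmul φ 1 (D.Vinv ⟨z, hz'⟩) from h _ (hpTQ _ y.2) hIy
      intro z hz
      suffices h : div f s e FR (Dieu.BC.tmul φ 1 z) = Dieu.BC.tmul φ 1 (D.Vinv ⟨z, D.IV_smul_le hz⟩) from fun _ => h
      refine (IV_smul_induction D ⊤ (C := fun z hzQ => z ∈ IV p S • (⊤ : Submodule (WittVector p S) P) ∧
        div f s e FR (Dieu.BC.tmul φ 1 z) = Dieu.BC.tmul φ 1 (D.Vinv ⟨z, hzQ⟩))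
        (fun v t _ => ⟨Submodule.smul_mem_smul (verschiebung_mem_IV p S v) Submodule.mem_top, ?_⟩)
        (fun a b ha hb h1 h2 => ⟨add_mem h1.1 h2.1, ?_⟩) hz (D.IV_smul_le hz)).2
      · rw [D.Vinv_verschiebung_smul, ← Dieu.BC.tmul_apply_eq, Dieu.BC.tmul_eq_smul_tmul_one,
          WittVector.map_verschiebung, div_verschiebung f s e hse, hFt, map_one, ← Dieu.BC.tmul_apply_eq,
          Dieu.BC.smul_tmul, mul_one]
      · rw [Dieu.BC.tmul_add, div_add f s e FR (hJ _ h1.1) (hJ _ h2.1), h1.2, h2.2, ← Dieu.BC.tmul_add,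
          ← map_add D.Vinv]
        rfl
    have hJy : Dieu.BC.tmul φ 1 (pT (y : P)) ∈ J := by
      have h1 : Dieu.BC.tmul φ 1 (y : P) ∈ QR := by
        rw [LinearMap.mem_ker, Dieu.bcQuotMap_tmul,
          show D.Q.mkQ (y : P) = 0 from (Submodule.Quotient.mk_eq_zero _).2 y.2, Dieu.BC.tmul_zero]
      have h2 := hTR _ h1
      rwa [Dieu.BC.map_tmul] at h2
    rw [semi_tmul, Dieu.BC.map_tmul, Dieu.BC.tmul_eq_smul_tmul_one φ w,
      div_smul f s e FR w hJy, hdiv, Dieu.BC.smul_tmul, mul_one, ← Dieu.BC.tmul_add]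
    show Dieu.BC.tmul φ (σR w) (D.Vinv _ + D.Vinv _) = _
    rw [← map_add D.Vinv]
    exact congrArg (fun q => Dieu.BC.tmul φ (σR w) (D.Vinv q)) (Subtype.ext (hsum _))
  have hmemQ : ∀ (w : WittVector p R) (y : D.Q), Dieu.BC.tmul φ w (y : P) ∈ QR := fun w y => by
    rw [LinearMap.mem_ker, Dieu.bcQuotMap_tmul,
      show D.Q.mkQ (y : P) = 0 from (Submodule.Quotient.mk_eq_zero _).2 y.2, Dieu.BC.tmul_zero]
  let πR : (Fin n → WittVector p R) →ₗ[WittVector p R] PR := Fintype.linearCombination (WittVector p R) fun i => Dieu.BC.tmul φ 1 (e i)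
  let sR : PR →ₗ[WittVector p R] (Fin n → WittVector p R) := LinearMap.pi (coord f s)
  have hretr : πR.comp sR = LinearMap.id := LinearMap.ext fun z => by
    simpa [πR, sR, Fintype.linearCombination_apply] using sum_coord f s e hse z
  let DR : Display3n p R PR :=
    { Q := QR
      F := FR
      Vinv := Vinv
      finite := Module.Finite.of_surjective πR fun z => ⟨sR z, LinearMap.congr_fun hretr z⟩
      projective := Module.Projective.of_split sR πR hretr
      IV_smul_le := hIQ
      exists_normal := by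
        refine ⟨LinearMap.range LR, LinearMap.range TR, ⟨?_, ?_⟩, le_antisymm (fun q hq => ?_) (sup_le ?_ ?_)⟩
        · have hLT0 : ∀ z, LR (TR z) = 0 := fun z => by
            induction z using Dieu.BC.induction_on with
            | zero => simp
            | tmul b x =>
              rw [Dieu.BC.map_tmul, Dieu.BC.map_tmul]
              show Dieu.BC.tmul φ b ((L.projectionOnto T hLT ((T.projectionOnto L hLT.symm x) : P)) : P) = 0
              rw [Submodule.projectionOnto_apply_right]
              exact Dieu.BC.tmul_zero φ b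
            | add z₁ z₂ h₁ h₂ => rw [map_add, map_add, h₁, h₂, add_zero]
          rw [Submodule.disjoint_def]
          rintro _ ⟨x, rfl⟩ ⟨y, hy⟩
          have h1 := hLT0 y
          rw [hy] at h1
          have h2 : LR (LR x) = LR x := by
            have := hsumR (LR x)
            have h3 : TR (LR x) = 0 := by
              clear h1 this hy
              induction x using Dieu.BC.induction_on with
              | zero => simp
              | tmul b x =>
                rw [Dieu.BC.map_tmul, Dieu.BC.map_tmul]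
                show Dieu.BC.tmul φ b ((T.projectionOnto L hLT.symm ((L.projectionOnto T hLT x) : P)) : P) = 0
                rw [Submodule.projectionOnto_apply_right]
                exact Dieu.BC.tmul_zero φ b
              | add z₁ z₂ h₁ h₂ => rw [map_add, map_add, h₁, h₂, add_zero]
            rwa [h3, add_zero] at this
          rw [← h2, h1]
        · rw [codisjoint_iff, eq_top_iff]
          exact fun z _ => (hsumR z) ▸ Submodule.add_mem_sup ⟨z, rfl⟩ ⟨z, rfl⟩
        · have h1 : TR (TR q) ∈ IV p R • LinearMap.range TR := by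
            have := Submodule.mem_map_of_mem (f := TR) (hTR q hq)
            rwa [Submodule.map_smul'', Submodule.map_top] at this
          have h2 : TR (TR q) = TR q := by
            clear h1 hq
            induction q using Dieu.BC.induction_on with
            | zero => simp
            | tmul b x =>
              rw [Dieu.BC.map_tmul, Dieu.BC.map_tmul]
              show Dieu.BC.tmul φ b ((T.projectionOnto L hLT.symm ((T.projectionOnto L hLT.symm x) : P)) : P) = _
              rw [Submodule.projectionOnto_apply_left]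
              rfl
            | add z₁ z₂ h₁ h₂ => rw [map_add, map_add, h₁, h₂]
          rw [h2] at h1
          exact (hsumR q) ▸ Submodule.add_mem_sup ⟨q, rfl⟩ h1
        · rintro _ ⟨z, rfl⟩; exact hLR z
        · exact (Submodule.smul_mono le_rfl le_top).trans hIQ
      span_range_Vinv := by
        rw [eq_top_iff]
        rintro z -
        induction z using Dieu.BC.induction_on with
        | zero => exact zero_mem _
        | tmul b x =>
          rw [Dieu.BC.tmul_eq_smul_tmul_one]
          refine Submodule.smul_mem _ _ ?_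
          have hx : x ∈ Submodule.span (WittVector p S) (Set.range D.Vinv) := by rw [D.span_range_Vinv]; trivial
          induction hx using Submodule.span_induction with
          | mem y hy =>
            obtain ⟨y, rfl⟩ := hy
            exact Submodule.subset_span ⟨⟨_, hmemQ 1 y⟩, (hVt 1 y (hmemQ 1 y)).trans (by rw [map_one])⟩
          | zero => rw [Dieu.BC.tmul_zero]; exact zero_mem _
          | add a c _ _ ha hc => rw [Dieu.BC.tmul_add]; exact add_mem ha hc
          | smul a y _ hy => rw [← Dieu.BC.tmul_apply_eq, Dieu.BC.tmul_eq_smul_tmul_one]; exact Submodule.smul_mem _ _ hy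
        | add z₁ z₂ h₁ h₂ => exact add_mem h₁ h₂
      Vinv_verschiebung_smul := fun w x => by
        induction x using Dieu.BC.induction_on with
        | zero => simp only [smul_zero, map_zero]; exact map_zero Vinv
        | tmul b x =>
          have hmem : Dieu.BC.tmul φ (WittVector.verschiebung (w * σR b)) x ∈ QR := hIQ (by
            rw [Dieu.BC.tmul_eq_smul_tmul_one]
            exact Submodule.smul_mem_smul (verschiebung_mem_IV p R _) Submodule.mem_top)
          refine (congrArg Vinv (Subtype.ext ?_)).trans ((hVV (w * σR b) x hmem).trans ?_)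
          · show WittVector.verschiebung w • Dieu.BC.tmul φ b x = Dieu.BC.tmul φ (WittVector.verschiebung (w * σR b)) x
            rw [Dieu.BC.smul_tmul, WittVector.verschiebung_mul_frobenius]
          · rw [hFt, Dieu.BC.smul_tmul]
        | add z₁ z₂ h₁ h₂ =>
          refine ((congrArg Vinv (Subtype.ext ?_)).trans ((map_add Vinv _ _).trans (congr_arg₂ (· + ·) h₁ h₂))).trans ?_
          · exact smul_add _ _ _
          · rw [map_add, smul_add] }
  refine ⟨DR, ⟨rfl, hFt, hVt, hVV⟩, fun D' hD' => ?_, fun q hq => ?_⟩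
  swap
  · have hspan : ∀ z, LR z ∈ Submodule.span (WittVector p R) (Set.range fun y : D.Q => Dieu.BC.tmul φ 1 (y : P)) := fun z => by
      induction z using Dieu.BC.induction_on with
      | zero => rw [map_zero]; exact zero_mem _
      | tmul b x =>
        rw [Dieu.BC.map_tmul, Dieu.BC.tmul_eq_smul_tmul_one]
        exact Submodule.smul_mem _ _ (Submodule.subset_span ⟨⟨pL x, hpLQ x⟩, rfl⟩)
      | add z₁ z₂ h₁ h₂ => rw [map_add]; exact add_mem h₁ h₂
    exact (hsumR q) ▸ Submodule.add_mem_sup (hspan q) (hTR q hq)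
  refine display_ext hD'.Q_eq (LinearMap.ext fun z => ?_) fun q h₁ h₂ => ?_
  · induction z using Dieu.BC.induction_on with
    | zero => simp
    | tmul b x => rw [hD'.F_tmul]; exact (hFt b x).symm
    | add z₁ z₂ h₁ h₂ => rw [map_add, map_add, h₁, h₂]
  · have hQ' : D'.Q = QR := hD'.Q_eq
    have hA : ∀ (z : PR) (ha : LR z ∈ D'.Q), D'.Vinv ⟨LR z, ha⟩ = Vinv ⟨LR z, hLR z⟩ := by
      intro z
      induction z using Dieu.BC.induction_on with
      | zero =>
        intro ha
        simp only [map_zero]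
        exact (map_zero D'.Vinv).trans (map_zero Vinv).symm
      | tmul b x =>
        intro ha
        simp only [LR, Dieu.BC.map_tmul]
        exact (hD'.Vinv_tmul b ⟨pL x, hpLQ x⟩ _).trans (hVt b ⟨pL x, hpLQ x⟩ _).symm
      | add z₁ z₂ h₁ h₂ =>
        intro ha
        have e1 : (⟨LR (z₁ + z₂), ha⟩ : D'.Q) = ⟨LR z₁, hQ' ▸ hLR z₁⟩ + ⟨LR z₂, hQ' ▸ hLR z₂⟩ := Subtype.ext (map_add LR z₁ z₂)
        have e2 : (⟨LR (z₁ + z₂), hLR _⟩ : QR) = ⟨LR z₁, hLR z₁⟩ + ⟨LR z₂, hLR z₂⟩ := Subtype.ext (map_add LR z₁ z₂)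
        rw [e1, e2, map_add, map_add, h₁, h₂]
    have hFeq : ∀ t, D'.F t = FR t := fun t => by
      induction t using Dieu.BC.induction_on with
      | zero => simp
      | tmul b x => rw [hD'.F_tmul]; exact (hFt b x).symm
      | add z₁ z₂ k₁ k₂ => rw [map_add, map_add, k₁, k₂]
    have hB : ∀ z ∈ J, z ∈ QR ∧ ∀ (ha : z ∈ D'.Q) (hb : z ∈ QR), D'.Vinv ⟨z, ha⟩ = Vinv ⟨z, hb⟩ := by
      intro z hz
      refine Submodule.smul_induction_on hz (fun a ha t _ => ⟨hIQ (Submodule.smul_mem_smul ha Submodule.mem_top), ?_⟩) fun a b ha hb => ⟨add_mem ha.1 hb.1, ?_⟩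
      · obtain ⟨w, rfl⟩ := exists_verschiebung_eq ha
        intro h1 h2
        exact (D'.Vinv_verschiebung_smul w t).trans ((congrArg (w • ·) (hFeq t)).trans (DR.Vinv_verschiebung_smul w t).symm)
      · intro h1 h2
        have e1 : (⟨a + b, h1⟩ : D'.Q) = ⟨a, hQ' ▸ ha.1⟩ + ⟨b, hQ' ▸ hb.1⟩ := rfl
        have e2 : (⟨a + b, h2⟩ : QR) = ⟨a, ha.1⟩ + ⟨b, hb.1⟩ := rfl
        rw [e1, e2, map_add, map_add, ha.2, hb.2]
    have hqT := hB _ (hTR q h₂)
    have e1 : (⟨q, h₁⟩ : D'.Q) = ⟨LR q, hQ' ▸ hLR q⟩ + ⟨TR q, hQ' ▸ hqT.1⟩ := Subtype.ext (hsumR q).symm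
    have e2 : (⟨q, h₂⟩ : QR) = ⟨LR q, hLR q⟩ + ⟨TR q, hqT.1⟩ := Subtype.ext (hsumR q).symm
    show D'.Vinv ⟨q, h₁⟩ = Vinv ⟨q, h₂⟩
    rw [e1, e2, map_add, map_add, hA, hqT.2]

/-- The base change of a 3n-display exists and is unique. -/
theorem existsUnique (D : Display3n p S P) : ∃! DR : Display3n p R PR, Dieu.IsDispBaseChange f D DR :=
  let ⟨DR, h, hu, _⟩ := exists_spec f D
  ⟨DR, h, hu⟩

/-- The map `c ⊗ y ↦ φ c ⊗ (1 ⊗ y)`. -/
def theta (g : WittVector p S →+* WittVector p S) (g' : WittVector p R →+* WittVector p R)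
    (hg : ∀ a, g' (φ a) = φ (g a)) : Dieu.BC g P →ₛₗ[φ] Dieu.BC g' PR where
  toFun z := Dieu.BC.lift ((φ).comp g)
    ({ toFun := fun y => Dieu.BC.tmul g' 1 (Dieu.BC.tmul φ 1 y)
       map_add' := fun x y => by rw [Dieu.BC.tmul_add, Dieu.BC.tmul_add]
       map_smul' := fun a x => by
         rw [← Dieu.BC.tmul_apply_eq, show Dieu.BC.tmul φ (φ a) x = φ a • Dieu.BC.tmul φ 1 x by
             rw [Dieu.BC.smul_tmul, mul_one],
           ← Dieu.BC.tmul_apply_eq g', hg, Dieu.BC.tmul_eq_smul_tmul_one g' (φ (g a))]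
         rfl } : P →ₛₗ[(φ).comp g] Dieu.BC g' PR)
    (Dieu.BC.push g φ z)
  map_add' x y := by rw [map_add, map_add]
  map_smul' c z := by rw [LinearMap.map_smulₛₗ (Dieu.BC.push g φ), map_smul]

theorem theta_tmul (g : WittVector p S →+* WittVector p S) (g' : WittVector p R →+* WittVector p R)
    (hg : ∀ a, g' (φ a) = φ (g a)) (c : WittVector p S) (y : P) :
    theta f g g' hg (Dieu.BC.tmul g c y) = Dieu.BC.tmul g' (φ c) (Dieu.BC.tmul φ 1 y) := by
  show Dieu.BC.lift ((φ).comp g) _ (Dieu.BC.push g φ (Dieu.BC.tmul g c y)) = _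
  rw [Dieu.BC.push_tmul, Dieu.BC.lift_tmul]
  show φ c • Dieu.BC.tmul g' 1 (Dieu.BC.tmul φ 1 y) = _
  rw [Dieu.BC.smul_tmul, mul_one]

theorem pow_map (n : ℕ) (a : WittVector p S) : (σR ^ n) (φ a) = φ ((σS ^ n) a) := by
  induction n with
  | zero => rfl
  | succ n ih => rw [pow_succ', pow_succ', RingHom.coe_mul, RingHom.coe_mul, Function.comp_apply, Function.comp_apply, ih, frobenius_map]

/-- The base change of `V^#`. -/
def vSharp (Vs : P →ₗ[WittVector p S] Dieu.BC σS P) : PR →ₗ[WittVector p R] Dieu.BC σR PR :=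
  Dieu.BC.lift φ ((theta f σS σR (frobenius_map f)).comp Vs)

theorem vSharp_tmul (Vs : P →ₗ[WittVector p S] Dieu.BC σS P) (b : WittVector p R) (x : P) :
    vSharp f Vs (Dieu.BC.tmul φ b x) = b • theta f σS σR (frobenius_map f) (Vs x) := by
  rw [vSharp, Dieu.BC.lift_tmul]; rfl

theorem vSharpPow_tmul (Vs : P →ₗ[WittVector p S] Dieu.BC σS P) (n : ℕ) (x : P) :
    Dieu.vSharpPow (vSharp f Vs) n (Dieu.BC.tmul φ 1 x) = theta f _ _ (pow_map f (n + 1)) (Dieu.vSharpPow Vs n x) := by
  induction n generalizing x with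
  | zero =>
    rw [Dieu.vSharpPow_zero_apply, Dieu.vSharpPow_zero_apply, vSharp_tmul, one_smul]
    generalize Vs x = z
    induction z using Dieu.BC.induction_on with
    | zero => simp
    | tmul c y => rw [theta_tmul, Dieu.BC.castHom_tmul, Dieu.BC.castHom_tmul, theta_tmul]
    | add z₁ z₂ h₁ h₂ => simp only [map_add, h₁, h₂]
  | succ n ih =>
    rw [Dieu.vSharpPow_succ_apply, Dieu.vSharpPow_succ_apply, vSharp_tmul, one_smul]
    generalize Vs x = z
    induction z using Dieu.BC.induction_on with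
    | zero => simp
    | tmul c y =>
      rw [theta_tmul, Dieu.BC.map_tmul, Dieu.BC.map_tmul, Dieu.BC.lift_tmul, Dieu.BC.lift_tmul, map_smul, map_smul, ih,
        LinearMap.map_smulₛₗ]
      congr 1
      generalize Dieu.vSharpPow Vs n y = u
      induction u using Dieu.BC.induction_on with
      | zero => simp
      | tmul e v =>
        rw [theta_tmul, Dieu.BC.push_tmul, Dieu.BC.castHom_tmul, Dieu.BC.push_tmul, Dieu.BC.castHom_tmul, theta_tmul,
          frobenius_map]
      | add u₁ u₂ h₁ h₂ => simp only [map_add, h₁, h₂]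
    | add z₁ z₂ h₁ h₂ => simp only [map_add, h₁, h₂]

/-- Base change preserves displays. -/
theorem isDisplay (D : Display3n p S P) (hD : Dieu.IsDisplay D) (DR : Display3n p R PR)
    (hDR : Dieu.IsDispBaseChange f D DR) : Dieu.IsDisplay DR := by
  obtain ⟨Vs, hVs, n, hn⟩ := hD
  obtain ⟨D₀, -, hu, hle⟩ := exists_spec f D
  obtain rfl := hu DR hDR
  have hθ : ∀ (w : WittVector p R) (x : P), w • theta f σS σR (frobenius_map f) (Dieu.BC.tmul σS 1 x) =
      Dieu.BC.tmul σR w (Dieu.BC.tmul φ 1 x) := fun w x => by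
    rw [theta_tmul, map_one, Dieu.BC.smul_tmul, mul_one]
  refine ⟨vSharp f Vs, ⟨fun w z => ?_, fun w y => ?_⟩, n, fun z => ?_⟩
  · induction z using Dieu.BC.induction_on with
    | zero => simp
    | tmul b x =>
      rw [hDR.F_tmul, Dieu.BC.smul_tmul, vSharp_tmul, ← one_smul (WittVector p S) (D.F x), hVs.app_smul_F,
        LinearMap.map_smulₛₗ, map_natCast, smul_comm, hθ, Dieu.BC.tmul_mul_apply]
      simp only [Dieu.BC.smul_tmul, mul_one]
    | add z₁ z₂ h₁ h₂ => simp only [map_add, smul_add, h₁, h₂, Dieu.BC.tmul_add]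
  · suffices h : ∀ z ∈ DR.Q, z ∈ DR.Q ∧ ∀ (hz : z ∈ DR.Q) (w : WittVector p R),
        vSharp f Vs (w • DR.Vinv ⟨z, hz⟩) = Dieu.BC.tmul σR w z from (h _ y.2).2 y.2 w
    intro z hz
    have hadd : ∀ a b, (a ∈ DR.Q ∧ ∀ (ha : a ∈ DR.Q) (w : WittVector p R),
          vSharp f Vs (w • DR.Vinv ⟨a, ha⟩) = Dieu.BC.tmul σR w a) →
        (b ∈ DR.Q ∧ ∀ (hb : b ∈ DR.Q) (w : WittVector p R),
          vSharp f Vs (w • DR.Vinv ⟨b, hb⟩) = Dieu.BC.tmul σR w b) →
        (a + b ∈ DR.Q ∧ ∀ (hab : a + b ∈ DR.Q) (w : WittVector p R),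
          vSharp f Vs (w • DR.Vinv ⟨a + b, hab⟩) = Dieu.BC.tmul σR w (a + b)) := by
      rintro a b ⟨ha, ha'⟩ ⟨hb, hb'⟩
      refine ⟨add_mem ha hb, fun hab w => ?_⟩
      rw [show (⟨a + b, hab⟩ : DR.Q) = ⟨a, ha⟩ + ⟨b, hb⟩ from rfl, map_add, smul_add, map_add, ha', hb', Dieu.BC.tmul_add]
    obtain ⟨a, ha, b, hb, rfl⟩ := Submodule.mem_sup.1 (hle hz)
    refine hadd a b ?_ ?_
    · clear hz
      induction ha using Submodule.span_induction with
      | mem a h =>
        obtain ⟨q, rfl⟩ := h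
        have hm : Dieu.BC.tmul φ 1 (q : P) ∈ DR.Q := by
          rw [hDR.Q_eq, LinearMap.mem_ker, Dieu.bcQuotMap_tmul,
            show D.Q.mkQ (q : P) = 0 from (Submodule.Quotient.mk_eq_zero _).2 q.2, Dieu.BC.tmul_zero]
        refine ⟨hm, fun hm' w => ?_⟩
        rw [hDR.Vinv_tmul 1 q hm', map_one, Dieu.BC.smul_tmul, mul_one, vSharp_tmul, ← one_smul (WittVector p S) (D.Vinv q),
          hVs.app_smul_Vinv, hθ]
      | zero =>
        refine ⟨zero_mem _, fun h w => ?_⟩
        rw [show (⟨0, h⟩ : DR.Q) = 0 from rfl, map_zero, smul_zero, map_zero, Dieu.BC.tmul_zero]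
      | add a b _ _ h₁ h₂ => exact hadd a b h₁ h₂
      | smul r a _ h₁ =>
        refine ⟨DR.Q.smul_mem r h₁.1, fun h w => ?_⟩
        rw [show (⟨r • a, h⟩ : DR.Q) = r • ⟨a, h₁.1⟩ from rfl, LinearMap.map_smulₛₗ DR.Vinv, smul_smul, h₁.2,
          Dieu.BC.tmul_mul_apply]
    · clear hz
      refine Submodule.smul_induction_on hb (fun a ha t _ => ?_) hadd
      obtain ⟨v, rfl⟩ := exists_verschiebung_eq ha
      refine ⟨DR.IV_smul_le (Submodule.smul_mem_smul (verschiebung_mem_IV p R v) Submodule.mem_top), fun h w => ?_⟩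
      rw [show DR.Vinv ⟨WittVector.verschiebung v • t, h⟩ = v • DR.F t from DR.Vinv_verschiebung_smul v t, smul_smul]
      clear h
      induction t using Dieu.BC.induction_on with
      | zero => simp
      | tmul b x =>
        rw [hDR.F_tmul, Dieu.BC.smul_tmul, vSharp_tmul, ← one_smul (WittVector p S) (D.F x), hVs.app_smul_F,
          LinearMap.map_smulₛₗ, map_natCast, smul_comm, hθ, Dieu.BC.smul_tmul, ← Dieu.BC.tmul_mul_apply,
          WittVector.frobenius_verschiebung]
        rw [show (p : WittVector p R) * (w * v * σR b) = w * (v * (p : WittVector p R)) * σR b by ring, Dieu.BC.tmul_mul_apply,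
          Dieu.BC.smul_tmul, mul_one]
      | add t₁ t₂ h₁ h₂ => simp only [map_add, smul_add, h₁ trivial, h₂ trivial, Dieu.BC.tmul_add]
  · induction z using Dieu.BC.induction_on with
    | zero => rw [map_zero]; exact zero_mem _
    | tmul b x =>
      rw [Dieu.BC.tmul_eq_smul_tmul_one, map_smul, vSharpPow_tmul]
      refine Submodule.smul_mem _ _ ?_
      refine Submodule.smul_induction_on (hn x) (fun a ha t _ => ?_) fun a b ha hb => by rw [map_add]; exact add_mem ha hb
      rw [LinearMap.map_smulₛₗ]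
      refine Submodule.smul_mem_smul ?_ Submodule.mem_top
      have h1 := Ideal.mem_map_of_mem φ ha
      rw [Ideal.map_sup, Ideal.map_span, Set.image_singleton, map_natCast] at h1
      exact (sup_le_sup_right ((Ideal.map_le_iff_le_comap (K := IV p R)).2 fun c hc => map_mem_IV f hc) _) h1
    | add z₁ z₂ h₁ h₂ => rw [map_add]; exact add_mem h₁ h₂

end Groth.Agent.DispLib.DispBC
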