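import Groth.Prelude.Def_Disp2
import Groth.Agent.S14855
import Mathlib.RingTheory.WittVector.Identities
import Mathlib.RingTheory.Finiteness.Nakayama
import Mathlib.RingTheory.OrzechProperty
import Mathlib.RingTheory.Ideal.Quotient.Operations
import Mathlib.LinearAlgebra.Projection

/-! # Basic lemmas on 3n-displays -/

universe u v

namespace Groth.Agent.DispLib

open WittVector W4c1extbt610

variable {p : ℕ} [hp : Fact p.Prime] {R : Type u} [CommRing R]

theorem mem_IV_iff (x : WittVector p R) : x ∈ IV p R ↔ WittVector.constantCoeff x = 0 := by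
  constructor
  · intro hx
    induction hx using Submodule.span_induction with
    | mem y hy => obtain ⟨w, rfl⟩ := hy; exact WittVector.verschiebung_coeff_zero w
    | zero => exact map_zero _
    | add a b _ _ ha hb => rw [map_add, ha, hb, add_zero]
    | smul c a _ ha => rw [smul_eq_mul, map_mul, ha, mul_zero]
  · intro hx
    have h := WittVector.eq_iterate_verschiebung (x := x) (n := 1) (fun i hi => by
      obtain rfl : i = 0 := by omega
      exact hx)
    simp only [Function.iterate_one] at h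
    rw [h]
    exact verschiebung_mem_IV p R _

theorem IV_eq_ker : IV p R = RingHom.ker (WittVector.constantCoeff : WittVector p R →+* R) :=
  Ideal.ext fun x => mem_IV_iff x

theorem exists_verschiebung_eq {x : WittVector p R} (hx : x ∈ IV p R) : ∃ w, x = WittVector.verschiebung w := by
  refine ⟨x.shift 1, ?_⟩
  have h := WittVector.eq_iterate_verschiebung (x := x) (n := 1) (fun i hi => by
    obtain rfl : i = 0 := by omega
    exact (mem_IV_iff x).1 hx)
  simpa only [Function.iterate_one] using h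

theorem isAdicComplete_of_isNilpotent (h : IsNilpotent (p : R)) : IsAdicComplete (Ideal.span {(p : R)}) R := by
  obtain ⟨N, hN⟩ := h
  have hz : ∀ n, N ≤ n → (Ideal.span {(p : R)}) ^ n • (⊤ : Submodule R R) = ⊥ := fun n hn => by
    rw [Ideal.span_singleton_pow, pow_eq_zero_of_le hn hN, Ideal.span_singleton_zero]
    exact Submodule.bot_smul _
  refine { haus' := fun x hx => ?_, prec' := fun f hf => ⟨f N, fun n => ?_⟩ }
  · have := hx N
    rwa [hz N le_rfl, SModEq.bot] at this
  · rcases le_total n N with h | h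
    · exact hf h
    · have := hf h
      rw [hz N le_rfl, SModEq.bot] at this
      rw [this]

theorem IV_le_jacobson (h : IsNilpotent (p : R)) : IV p R ≤ Ideal.jacobson ⊥ := by
  haveI := isAdicComplete_of_isNilpotent h
  haveI := (S14855.result p R).2
  rw [IV_eq_ker]
  exact IsAdicComplete.le_jacobson_bot _

theorem p_mem_of_isMaximal (h : IsNilpotent (p : R)) (m : Ideal (WittVector p R)) [hm : m.IsMaximal] :
    IV p R ≤ m ∧ (p : WittVector p R) ∈ m := by
  have hle : IV p R ≤ m := (IV_le_jacobson h).trans (sInf_le ⟨bot_le, hm⟩)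
  obtain ⟨N, hN⟩ := h
  refine ⟨hle, hm.isPrime.mem_of_pow_mem N (hle ((mem_IV_iff _).2 ?_))⟩
  rw [map_pow, map_natCast, hN]

theorem frobenius_mem_of_mem (h : IsNilpotent (p : R)) (m : Ideal (WittVector p R)) [m.IsMaximal]
    {a : WittVector p R} (ha : a ∈ m) : WittVector.frobenius a ∈ m := by
  obtain ⟨hle, hpm⟩ := p_mem_of_isMaximal h m
  have hc : WittVector.frobenius a - a ^ p - (p : WittVector p R) * WittVector.teichmuller p (a.coeff 1) ∈ IV p R := by
    rw [mem_IV_iff, map_sub, map_sub, map_mul, map_pow, map_natCast]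
    show (WittVector.frobenius a).coeff 0 - a.coeff 0 ^ p - (p : R) * (WittVector.teichmuller p (a.coeff 1)).coeff 0 = 0
    rw [WittVector.teichmuller_coeff_zero, WittVector.coeff_frobenius, frobeniusPoly, frobeniusPolyAux_eq, Finset.range_zero,
      Finset.sum_empty, sub_zero, map_add, map_pow, map_mul, MvPolynomial.aeval_X, MvPolynomial.aeval_X, MvPolynomial.aeval_C]
    simp only [algebraMap_int_eq, eq_intCast, Int.cast_natCast]
    ring
  have := add_mem (add_mem (hle hc) (Ideal.mul_mem_right (WittVector.teichmuller p (a.coeff 1)) _ hpm))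
    (Ideal.pow_mem_of_mem _ ha p hp.out.pos)
  simpa using this

variable {P : Type v} [AddCommGroup P] [Module (WittVector p R) P]

local notation "σ" => (WittVector.frobenius : WittVector p R →+* WittVector p R)

theorem semilinearEpi_bijective (h : IsNilpotent (p : R)) [Module.Finite (WittVector p R) P]
    [Module.Projective (WittVector p R) P] (φ : P →ₛₗ[σ] P) (hφ : Submodule.span (WittVector p R) (Set.range φ) = ⊤) :
    Function.Bijective (Dieu.BC.lift σ φ) := by
  classical
  let Φ := Dieu.BC.lift σ φ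
  have hsur : Function.Surjective Φ := by
    rw [← LinearMap.range_eq_top, eq_top_iff, ← hφ, Submodule.span_le]
    rintro _ ⟨x, rfl⟩
    exact ⟨Dieu.BC.tmul σ 1 x, by rw [Dieu.BC.lift_tmul, one_smul]⟩
  refine ⟨?_, hsur⟩
  obtain ⟨s, hs⟩ := Module.projective_lifting_property Φ LinearMap.id hsur
  have hs' : ∀ x, Φ (s x) = x := fun x => LinearMap.congr_fun hs x
  obtain ⟨g, hg⟩ := (Module.Finite.fg_top : (⊤ : Submodule (WittVector p R) P).FG)
  haveI : Module.Finite (WittVector p R) (Dieu.BC σ P) := by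
    refine ⟨g.image (Dieu.BC.tmul σ 1), ?_⟩
    rw [eq_top_iff]
    rintro z -
    induction z using Dieu.BC.induction_on with
    | zero => exact zero_mem _
    | tmul b x =>
      rw [Dieu.BC.tmul_eq_smul_tmul_one]
      refine Submodule.smul_mem _ _ ?_
      have hx : x ∈ Submodule.span (WittVector p R) (g : Set P) := by rw [hg]; trivial
      induction hx using Submodule.span_induction with
      | mem y hy => exact Submodule.subset_span (Finset.mem_image_of_mem _ hy)
      | zero => rw [Dieu.BC.tmul_zero]; exact zero_mem _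
      | add a c _ _ ha hc => rw [Dieu.BC.tmul_add]; exact add_mem ha hc
      | smul a y _ hy => rw [← Dieu.BC.tmul_apply_eq, Dieu.BC.tmul_eq_smul_tmul_one]; exact Submodule.smul_mem _ _ hy
    | add z₁ z₂ h₁ h₂ => exact add_mem h₁ h₂
  let π : Dieu.BC σ P →ₗ[WittVector p R] LinearMap.ker Φ := (LinearMap.id - s.comp Φ).codRestrict _ fun x => by
    simp [hs']
  have hπ : ∀ x : LinearMap.ker Φ, π x = x := fun x => Subtype.ext (by simp [π, LinearMap.mem_ker.1 x.2])
  haveI : Module.Finite (WittVector p R) (LinearMap.ker Φ) := Module.Finite.of_surjective π fun x => ⟨x, hπ x⟩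
  have hann : (⊤ : Submodule (WittVector p R) (LinearMap.ker Φ)).annihilator = ⊤ := by
    by_contra hne
    obtain ⟨m, hm, hle⟩ := Ideal.exists_le_maximal _ hne
    haveI := hm
    letI : Field (WittVector p R ⧸ m) := Ideal.Quotient.field m
    let M₀ := P ⧸ m • (⊤ : Submodule (WittVector p R) P)
    let N₀ := Dieu.BC σ P ⧸ m • (⊤ : Submodule (WittVector p R) (Dieu.BC σ P))
    let Φ₀ : N₀ →ₗ[WittVector p R] M₀ := Submodule.mapQ _ _ Φ (Submodule.map_le_iff_le_comap.1 (by
      rw [Submodule.map_smul'']; exact Submodule.smul_mono le_rfl le_top))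
    let bas := Module.Basis.ofVectorSpace (WittVector p R ⧸ m) M₀
    choose v hv using fun i => Submodule.Quotient.mk_surjective (m • (⊤ : Submodule (WittVector p R) P)) (bas i)
    let h₀ : M₀ →ₗ[WittVector p R] N₀ :=
      (bas.constr (WittVector p R ⧸ m) fun i => (Submodule.Quotient.mk (Dieu.BC.tmul σ 1 (v i)) : N₀)).restrictScalars _
    have hh : Function.Surjective h₀ := by
      rw [← LinearMap.range_eq_top, eq_top_iff]
      rintro z -
      obtain ⟨z, rfl⟩ := Submodule.Quotient.mk_surjective _ z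
      induction z using Dieu.BC.induction_on with
      | zero => exact zero_mem _
      | tmul b x =>
        rw [Dieu.BC.tmul_eq_smul_tmul_one, Submodule.Quotient.mk_smul]
        refine Submodule.smul_mem _ _ ?_
        have hzero : ∀ z ∈ m • (⊤ : Submodule (WittVector p R) P), (Submodule.Quotient.mk (Dieu.BC.tmul σ 1 z) : N₀) = 0 := by
          intro z hz
          refine Submodule.smul_induction_on hz (fun a ha y _ => ?_) (fun a c ha hc => ?_)
          · rw [← Dieu.BC.tmul_apply_eq, Dieu.BC.tmul_eq_smul_tmul_one, Submodule.Quotient.mk_eq_zero]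
            exact Submodule.smul_mem_smul (frobenius_mem_of_mem h m ha) Submodule.mem_top
          · rw [Dieu.BC.tmul_add, Submodule.Quotient.mk_add, ha, hc, add_zero]
        have hkey : ∀ y ∈ Submodule.span (WittVector p R ⧸ m) (Set.range bas), ∃ x,
            (Submodule.Quotient.mk x : M₀) = y ∧ (Submodule.Quotient.mk (Dieu.BC.tmul σ 1 x) : N₀) ∈ LinearMap.range h₀ := by
          intro y hy
          induction hy using Submodule.span_induction with
          | mem y hy =>
            obtain ⟨i, rfl⟩ := hy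
            exact ⟨v i, hv i, bas i, Module.Basis.constr_basis bas (WittVector p R ⧸ m) _ i⟩
          | zero => exact ⟨0, rfl, by rw [Dieu.BC.tmul_zero]; exact zero_mem _⟩
          | add y y' _ _ hy hy' =>
            obtain ⟨x, hx, hx'⟩ := hy
            obtain ⟨z, hz, hz'⟩ := hy'
            exact ⟨x + z, by rw [Submodule.Quotient.mk_add, hx, hz], by
              rw [Dieu.BC.tmul_add, Submodule.Quotient.mk_add]; exact add_mem hx' hz'⟩
          | smul c y _ hy =>
            obtain ⟨x, hx, hx'⟩ := hy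
            obtain ⟨a, rfl⟩ := Ideal.Quotient.mk_surjective c
            exact ⟨a • x, by rw [Submodule.Quotient.mk_smul, hx]; rfl, by
              rw [← Dieu.BC.tmul_apply_eq, Dieu.BC.tmul_eq_smul_tmul_one, Submodule.Quotient.mk_smul]
              exact Submodule.smul_mem _ _ hx'⟩
        obtain ⟨x', hx1, hx2⟩ := hkey (Submodule.Quotient.mk x) (by rw [bas.span_eq]; trivial)
        have h3 := hzero _ ((Submodule.Quotient.eq _).1 hx1.symm)
        rw [show x = x' + (x - x') by abel, Dieu.BC.tmul_add, Submodule.Quotient.mk_add, h3, add_zero]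
        exact hx2
      | add z₁ z₂ h₁ h₂ => rw [Submodule.Quotient.mk_add]; exact add_mem h₁ h₂
    have hΦ₀ : Function.Surjective Φ₀ := by
      intro y
      obtain ⟨y, rfl⟩ := Submodule.Quotient.mk_surjective _ y
      obtain ⟨x, rfl⟩ := hsur y
      exact ⟨Submodule.Quotient.mk x, rfl⟩
    have hinj : Function.Injective Φ₀ := Function.Injective.of_comp (f := h₀)
      (OrzechProperty.injective_of_surjective_endomorphism (h₀.comp Φ₀) (hh.comp hΦ₀))
    have hKm : (⊤ : Submodule (WittVector p R) (LinearMap.ker Φ)) ≤ m • (⊤ : Submodule (WittVector p R) (LinearMap.ker Φ)) := by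
      rintro x -
      have hx : (Submodule.Quotient.mk (x : Dieu.BC σ P) : N₀) = 0 := hinj (by
        rw [map_zero, Submodule.mapQ_apply, LinearMap.mem_ker.1 x.2, Submodule.Quotient.mk_zero])
      rw [Submodule.Quotient.mk_eq_zero] at hx
      rw [← hπ x]
      have h1 := Submodule.mem_map_of_mem (f := π) hx
      rw [Submodule.map_smul''] at h1
      exact Submodule.smul_mono le_rfl le_top h1
    obtain ⟨r, hr, hr0⟩ := Submodule.exists_sub_one_mem_and_smul_eq_zero_of_fg_of_le_smul m ⊤ Module.Finite.fg_top hKm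
    refine hm.ne_top ((Ideal.eq_top_iff_one _).2 ?_)
    rw [show (1 : WittVector p R) = r - (r - 1) by ring]
    exact sub_mem (hle (Submodule.mem_annihilator.2 hr0)) hr
  rw [injective_iff_map_eq_zero]
  intro x hx
  have h1 := Submodule.mem_annihilator.1 (hann ▸ (Submodule.mem_top : (1 : WittVector p R) ∈ (⊤ : Ideal _))) ⟨x, hx⟩ Submodule.mem_top
  rw [one_smul] at h1
  exact congrArg Subtype.val h1

variable (D : Display3n p R P)

theorem F_eq_Vinv (x : P) : D.F x = D.Vinv ⟨WittVector.verschiebung 1 • x,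
    D.IV_smul_le (Submodule.smul_mem_smul (verschiebung_mem_IV p R 1) Submodule.mem_top)⟩ := by
  rw [D.Vinv_verschiebung_smul, one_smul]

theorem F_of_mem (y : D.Q) : D.F (y : P) = (p : WittVector p R) • D.Vinv y := by
  have h := D.Vinv.map_smulₛₗ (WittVector.verschiebung 1) y
  rw [WittVector.frobenius_verschiebung, one_mul] at h
  rw [F_eq_Vinv, ← h]
  rfl

theorem IV_smul_induction (T : Submodule (WittVector p R) P) {C : ∀ z : P, z ∈ D.Q → Prop}
    (h0 : ∀ (w : WittVector p R) (t : P) (ht : t ∈ T),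
      C (WittVector.verschiebung w • t) (D.IV_smul_le (Submodule.smul_mem_smul (verschiebung_mem_IV p R w) Submodule.mem_top)))
    (hadd : ∀ a b (ha : a ∈ D.Q) (hb : b ∈ D.Q), C a ha → C b hb → C (a + b) (add_mem ha hb))
    {z : P} (hz : z ∈ IV p R • T) (hzQ : z ∈ D.Q) : C z hzQ := by
  suffices h : ∃ hq : z ∈ D.Q, C z hq from h.choose_spec
  refine Submodule.smul_induction_on hz (fun a ha t ht => ?_) (fun a b ha hb => ?_)
  · obtain ⟨w, rfl⟩ := exists_verschiebung_eq ha
    exact ⟨_, h0 w t ht⟩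
  · obtain ⟨ha, ha'⟩ := ha
    obtain ⟨hb, hb'⟩ := hb
    exact ⟨add_mem ha hb, hadd _ _ ha hb ha' hb'⟩

variable {L T : Submodule (WittVector p R) P} (hLT : IsCompl L T) (hLQ : L ≤ D.Q)

/-- `Vinv` on `L`, `F` on `T`. -/
noncomputable def normalMap : P →ₛₗ[σ] P where
  toFun x := D.Vinv (Submodule.inclusion hLQ (L.projectionOnto T hLT x)) + D.F (T.projectionOnto L hLT.symm x : P)
  map_add' x y := by simp only [map_add, Submodule.coe_add]; abel
  map_smul' a x := by simp only [map_smul, map_smulₛₗ, Submodule.coe_smul, smul_add, RingHom.id_apply]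

theorem normalMap_L (l : L) : normalMap D hLT hLQ (l : P) = D.Vinv ⟨l, hLQ l.2⟩ := by
  show D.Vinv _ + D.F _ = _
  rw [Submodule.projectionOnto_apply_left, Submodule.projectionOnto_apply_right, Submodule.coe_zero, map_zero, add_zero]
  rfl

theorem normalMap_T (t : T) : normalMap D hLT hLQ (t : P) = D.F (t : P) := by
  show D.Vinv _ + D.F _ = _
  rw [Submodule.projectionOnto_apply_left, Submodule.projectionOnto_apply_right, map_zero, map_zero, zero_add]

variable (hQ : D.Q = L ⊔ IV p R • T)

include hQ in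
theorem span_normalMap : Submodule.span (WittVector p R) (Set.range (normalMap D hLT hLQ)) = ⊤ := by
  rw [eq_top_iff, ← D.span_range_Vinv, Submodule.span_le]
  rintro _ ⟨⟨y, hy⟩, rfl⟩
  obtain ⟨l, hl, z, hz, rfl⟩ := Submodule.mem_sup.1 (hQ ▸ hy)
  have hzQ : z ∈ D.Q := hQ ▸ Submodule.mem_sup_right hz
  rw [SetLike.mem_coe, show (⟨l + z, hy⟩ : D.Q) = ⟨l, hLQ hl⟩ + ⟨z, hzQ⟩ from rfl, map_add]
  refine add_mem (Submodule.subset_span ⟨l, normalMap_L D hLT hLQ ⟨l, hl⟩⟩) ?_
  refine IV_smul_induction D T (C := fun z h => D.Vinv ⟨z, h⟩ ∈ Submodule.span (WittVector p R) (Set.range (normalMap D hLT hLQ)))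
    (fun w t ht => ?_) (fun a b ha hb h1 h2 => ?_) hz hzQ
  · rw [D.Vinv_verschiebung_smul]
    exact Submodule.smul_mem _ _ (Submodule.subset_span ⟨t, normalMap_T D hLT hLQ ⟨t, ht⟩⟩)
  · rw [show (⟨a + b, add_mem ha hb⟩ : D.Q) = ⟨a, ha⟩ + ⟨b, hb⟩ from rfl, map_add]
    exact add_mem h1 h2

include hQ in
theorem exists_isVSharp (h : IsNilpotent (p : R)) (hLT : IsCompl L T) (hLQ : L ≤ D.Q) :
    ∃ Vs : P →ₗ[WittVector p R] Dieu.BC σ P, Dieu.IsVSharp D Vs := by
  haveI := D.finite
  haveI := D.projective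
  let Φ := LinearEquiv.ofBijective _ (semilinearEpi_bijective h _ (span_normalMap D hLT hLQ hQ))
  let θ : P →ₗ[WittVector p R] P := L.subtype.comp (L.projectionOnto T hLT) +
    (p : WittVector p R) • T.subtype.comp (T.projectionOnto L hLT.symm)
  let Vs := (Dieu.BC.map σ θ).comp (Φ.symm : P →ₗ[WittVector p R] Dieu.BC σ P)
  have hkey : ∀ b x, Vs (b • normalMap D hLT hLQ x) = Dieu.BC.tmul σ b (θ x) := fun b x => by
    have e : Φ.symm (b • normalMap D hLT hLQ x) = Dieu.BC.tmul σ b x := Φ.symm_apply_eq.2 (Dieu.BC.lift_tmul σ _ b x).symm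
    show Dieu.BC.map σ θ (Φ.symm _) = _
    rw [e, Dieu.BC.map_tmul]
  have hθL : ∀ l : L, θ (l : P) = l := fun l => by
    simp [θ]
  have hθT : ∀ t : T, θ (t : P) = (p : WittVector p R) • (t : P) := fun t => by
    simp [θ]
  have hV : ∀ (y : P) (hy : y ∈ D.Q), Vs (D.Vinv ⟨y, hy⟩) = Dieu.BC.tmul σ 1 y := by
    intro y hy
    obtain ⟨l, hl, z, hz, rfl⟩ := Submodule.mem_sup.1 (hQ ▸ hy)
    have hzQ : z ∈ D.Q := hQ ▸ Submodule.mem_sup_right hz
    have hl' : Vs (D.Vinv ⟨l, hLQ hl⟩) = Dieu.BC.tmul σ 1 l := by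
      rw [← normalMap_L D hLT hLQ ⟨l, hl⟩, ← one_smul (WittVector p R) (normalMap D hLT hLQ _), hkey, hθL]
    have hz' : Vs (D.Vinv ⟨z, hzQ⟩) = Dieu.BC.tmul σ 1 z := by
      refine IV_smul_induction D T (C := fun z h => Vs (D.Vinv ⟨z, h⟩) = Dieu.BC.tmul σ 1 z) (fun w t ht => ?_) (fun a b ha hb h1 h2 => ?_) hz hzQ
      · rw [D.Vinv_verschiebung_smul, ← normalMap_T D hLT hLQ ⟨t, ht⟩, hkey, hθT, ← Dieu.BC.tmul_apply_eq, WittVector.frobenius_verschiebung,
          ← Dieu.BC.tmul_mul_apply, map_natCast]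
      · rw [show (⟨a + b, add_mem ha hb⟩ : D.Q) = ⟨a, ha⟩ + ⟨b, hb⟩ from rfl, map_add, map_add, h1, h2, ← Dieu.BC.tmul_add]
    rw [show (⟨l + z, hy⟩ : D.Q) = ⟨l, hLQ hl⟩ + ⟨z, hzQ⟩ from rfl, map_add, map_add, hl', hz', ← Dieu.BC.tmul_add]
  refine ⟨Vs, ⟨fun w x => ?_, fun w y => ?_⟩⟩
  · rw [map_smul, F_eq_Vinv, hV, ← Dieu.BC.tmul_apply_eq, WittVector.frobenius_verschiebung, one_mul,
      Dieu.BC.smul_tmul, Dieu.BC.smul_tmul, mul_comm]
  · rw [map_smul, show D.Vinv y = D.Vinv ⟨(y : P), y.2⟩ from rfl, hV, Dieu.BC.smul_tmul, mul_one]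

theorem isVSharp_unique {V₁ V₂ : P →ₗ[WittVector p R] Dieu.BC σ P} (h₁ : Dieu.IsVSharp D V₁) (h₂ : Dieu.IsVSharp D V₂) :
    V₁ = V₂ := by
  refine LinearMap.ext_on D.span_range_Vinv ?_
  rintro _ ⟨y, rfl⟩
  rw [← one_smul (WittVector p R) (D.Vinv y), h₁.app_smul_Vinv, h₂.app_smul_Vinv]

end Groth.Agent.DispLib
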