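import Mathlib.RingTheory.WittVector.Frobenius
import Mathlib.RingTheory.WittVector.Identities
import Mathlib.RingTheory.Ideal.Quotient.Operations
import Mathlib.RingTheory.MvPolynomial.Ideal
import Mathlib.Algebra.CharP.Lemmas

/-! # Iterated Frobenius on Witt vectors over a nil ideal of bounded exponent -/

universe u

namespace Groth.Agent.DispLib

open WittVector

variable {p : ℕ} [hp : Fact p.Prime] {S : Type u} [CommRing S]

theorem aeval_sub_mem (K : Ideal S) (y z : ℕ → S) (h : ∀ i, y i - z i ∈ K) (q : MvPolynomial ℕ ℤ) :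
    MvPolynomial.aeval y q - MvPolynomial.aeval z q ∈ K := by
  have e : ((Ideal.Quotient.mk K).comp ((MvPolynomial.aeval y : MvPolynomial ℕ ℤ →ₐ[ℤ] S) : MvPolynomial ℕ ℤ →+* S)) =
      (Ideal.Quotient.mk K).comp ((MvPolynomial.aeval z : MvPolynomial ℕ ℤ →ₐ[ℤ] S) : MvPolynomial ℕ ℤ →+* S) :=
    MvPolynomial.ringHom_ext (fun r => by simp) fun i => by
      simp only [RingHom.comp_apply, RingHom.coe_coe, MvPolynomial.aeval_X]
      exact Ideal.Quotient.eq.2 (h i)
  exact Ideal.Quotient.eq.1 (RingHom.congr_fun e q)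

/-- If all coefficients of `x` lie in an ideal killed by `p` and by the `p`-th power, then `σ x = 0`. -/
theorem frobenius_eq_zero_of_coeff_mem (K : Ideal S) (hKp : ∀ a ∈ K, (p : S) * a = 0) (hK : ∀ a ∈ K, a ^ p = 0)
    (x : WittVector p S) (hx : ∀ n, x.coeff n ∈ K) : WittVector.frobenius x = 0 := by
  refine WittVector.ext fun n => ?_
  have key : ∀ y : WittVector p S, (WittVector.frobenius y).coeff n =
      y.coeff n ^ p + (p : S) * MvPolynomial.aeval y.coeff (frobeniusPolyAux p n) := fun y => by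
    rw [WittVector.coeff_frobenius, frobeniusPoly, map_add, map_pow, map_mul, MvPolynomial.aeval_X, MvPolynomial.aeval_C]
    simp
  have h0 := key 0
  rw [map_zero, WittVector.zero_coeff, zero_pow hp.out.ne_zero, zero_add] at h0
  have hd := hKp _ (aeval_sub_mem K x.coeff (0 : WittVector p S).coeff
    (fun i => by rw [WittVector.zero_coeff, sub_zero]; exact hx i) (frobeniusPolyAux p n))
  rw [mul_sub, ← h0, sub_zero] at hd
  rw [key, hd, hK _ (hx n), add_zero, WittVector.zero_coeff]

theorem frobenius_map {T : Type*} [CommRing T] (f : S →+* T) (x : WittVector p S) :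
    WittVector.frobenius (WittVector.map f x) = WittVector.map f (WittVector.frobenius x) := by
  refine WittVector.ext fun m => ?_
  rw [WittVector.coeff_frobenius, WittVector.map_coeff, WittVector.coeff_frobenius]
  show _ = f (MvPolynomial.aeval _ _)
  rw [MvPolynomial.map_aeval, MvPolynomial.aeval_def]
  exact congrArg₂ (fun f g => MvPolynomial.eval₂ f g (frobeniusPoly p m)) (RingHom.ext_int _ _)
    (funext fun i => WittVector.map_coeff _ _ _)

/-- The ideal generated by the `p ^ i * a ^ (p ^ j)` with `i + j = t`, `a ∈ J`. -/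
def stepIdeal (p : ℕ) (J : Ideal S) (t : ℕ) : Ideal S :=
  Ideal.span {x | ∃ i j a, i + j = t ∧ a ∈ J ∧ x = (p : S) ^ i * a ^ p ^ j}

theorem p_mul_mem_stepIdeal {J : Ideal S} {t : ℕ} {x : S} (hx : x ∈ stepIdeal p J t) :
    (p : S) * x ∈ stepIdeal p J (t + 1) := by
  induction hx using Submodule.span_induction with
  | mem x hx =>
    obtain ⟨i, j, a, hij, ha, rfl⟩ := hx
    exact Ideal.subset_span ⟨i + 1, j, a, by omega, ha, by rw [pow_succ]; ring⟩
  | zero => rw [mul_zero]; exact zero_mem _
  | add x y _ _ hx hy => rw [mul_add]; exact add_mem hx hy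
  | smul c x _ hx => rw [smul_eq_mul, mul_left_comm]; exact Ideal.mul_mem_left _ _ hx

theorem pow_p_mem_stepIdeal {J : Ideal S} {t : ℕ} {x : S} (hx : x ∈ stepIdeal p J t) :
    x ^ p ∈ stepIdeal p J (t + 1) := by
  induction hx using Submodule.span_induction with
  | mem x hx =>
    obtain ⟨i, j, a, hij, ha, rfl⟩ := hx
    have h : (p : S) ^ i * a ^ p ^ (j + 1) ∈ stepIdeal p J (t + 1) := Ideal.subset_span ⟨i, j + 1, a, by omega, ha, rfl⟩
    have hle : i ≤ i * p := Nat.le_mul_of_pos_right i hp.out.pos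
    rw [mul_pow, ← pow_mul, ← pow_mul, ← pow_succ, ← Nat.sub_add_cancel hle, pow_add, mul_assoc]
    exact Ideal.mul_mem_left _ _ h
  | zero => rw [zero_pow hp.out.ne_zero]; exact zero_mem _
  | add x y hxm hym hx hy =>
    obtain ⟨r, hr⟩ := exists_add_pow_prime_eq hp.out x y
    rw [hr, show (p : S) * x * y * r = (p : S) * x * (y * r) by ring]
    exact add_mem (add_mem hx hy) (Ideal.mul_mem_right _ _ (p_mul_mem_stepIdeal hxm))
  | smul c x _ hx => rw [smul_eq_mul, mul_pow]; exact Ideal.mul_mem_left _ _ hx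

theorem exists_iterate_frobenius_eq_zero (hp' : IsNilpotent (p : S)) (J : Ideal S) (N : ℕ) (hN : ∀ a ∈ J, a ^ N = 0) :
    ∃ M : ℕ, ∀ x : WittVector p S, (∀ n, x.coeff n ∈ J) → ((⇑WittVector.frobenius)^[M]) x = 0 := by
  obtain ⟨e, he⟩ := hp'
  refine ⟨e + N, fun x hx => ?_⟩
  have key : ∀ t, ∀ n, (((⇑WittVector.frobenius)^[t]) x).coeff n ∈ stepIdeal p J t := by
    intro t
    induction t with
    | zero => exact fun n => Ideal.subset_span ⟨0, 0, x.coeff n, rfl, hx n, by simp⟩
    | succ t ih =>
      intro n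
      rw [Function.iterate_succ_apply']
      let π := Ideal.Quotient.mk (stepIdeal p J (t + 1))
      rw [← Ideal.Quotient.eq_zero_iff_mem]
      have h0 : WittVector.frobenius (WittVector.map π (((⇑WittVector.frobenius)^[t]) x)) = 0 := by
        refine frobenius_eq_zero_of_coeff_mem ((stepIdeal p J t).map π) ?_ ?_ _ fun n => ?_
        · intro a ha
          obtain ⟨b, hb, rfl⟩ := (Ideal.mem_map_iff_of_surjective _ Ideal.Quotient.mk_surjective).1 ha
          rw [← map_natCast π, ← map_mul, Ideal.Quotient.eq_zero_iff_mem]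
          exact p_mul_mem_stepIdeal hb
        · intro a ha
          obtain ⟨b, hb, rfl⟩ := (Ideal.mem_map_iff_of_surjective _ Ideal.Quotient.mk_surjective).1 ha
          rw [← map_pow, Ideal.Quotient.eq_zero_iff_mem]
          exact pow_p_mem_stepIdeal hb
        · rw [WittVector.map_coeff]
          exact Ideal.mem_map_of_mem _ (ih n)
      rw [frobenius_map] at h0
      have h := congrArg (fun y : WittVector p _ => y.coeff n) h0
      simpa [WittVector.map_coeff] using h
  refine WittVector.ext fun n => ?_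
  rw [WittVector.zero_coeff]
  have hz : stepIdeal p J (e + N) = ⊥ := by
    rw [stepIdeal, Ideal.span_eq_bot]
    rintro _ ⟨i, j, a, hij, ha, rfl⟩
    rcases Nat.lt_or_ge j N with h | h
    · rw [pow_eq_zero_of_le (by omega) he, zero_mul]
    · rw [pow_eq_zero_of_le (h.trans (Nat.lt_pow_self hp.out.one_lt).le) (hN a ha), mul_zero]
  exact (Submodule.mem_bot _).1 (hz ▸ key (e + N) n)

end Groth.Agent.DispLib
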