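import Groth.Agent.DispLib.Basic
import Groth.Agent.DispLib.FrobIter
import Mathlib.Data.Matrix.Mul
import Mathlib.Algebra.BigOperators.Group.List.Basic

/-! # The nilpotence condition in terms of a structure matrix -/

universe u v w

noncomputable section

namespace Groth.Agent.DispLib.BlockNilp

open WittVector W4c1extbt610

variable {p : ℕ} [hp : Fact p.Prime] {R : Type u} [CommRing R]

/-- Reduction `W(R) → R/p`. -/
def chi (p : ℕ) [Fact p.Prime] (R : Type u) [CommRing R] : WittVector p R →+* R ⧸ Ideal.span {(p : R)} :=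
  (Ideal.Quotient.mk _).comp WittVector.constantCoeff

theorem p_eq_zero : (p : R ⧸ Ideal.span {(p : R)}) = 0 := by
  rw [← map_natCast (Ideal.Quotient.mk (Ideal.span {(p : R)})), Ideal.Quotient.eq_zero_iff_mem]
  exact Ideal.mem_span_singleton_self _

/-- The Frobenius of `R/p`. -/
def Fr (p : ℕ) [Fact p.Prime] (R : Type u) [CommRing R] : (R ⧸ Ideal.span {(p : R)}) →+* R ⧸ Ideal.span {(p : R)} where
  toFun a := a ^ p
  map_one' := one_pow p
  map_mul' a b := mul_pow a b p
  map_zero' := zero_pow (Fact.out : p.Prime).ne_zero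
  map_add' a b := by
    obtain ⟨r, hr⟩ := exists_add_pow_prime_eq (Fact.out : p.Prime) a b
    rw [hr, p_eq_zero, zero_mul, zero_mul, zero_mul, add_zero]

theorem chi_frobenius (x : WittVector p R) : chi p R (WittVector.frobenius x) = Fr p R (chi p R x) := by
  show Ideal.Quotient.mk _ ((WittVector.frobenius x).coeff 0) = Ideal.Quotient.mk _ (x.coeff 0) ^ p
  rw [WittVector.coeff_frobenius, frobeniusPoly, map_add, map_pow, map_mul, MvPolynomial.aeval_X, MvPolynomial.aeval_C,
    map_add, map_pow, map_mul]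
  simp [p_eq_zero]

theorem chi_eq_zero_iff (x : WittVector p R) :
    chi p R x = 0 ↔ x ∈ IV p R ⊔ Ideal.span {(p : WittVector p R)} := by
  constructor
  · intro h
    obtain ⟨a, ha⟩ := Ideal.mem_span_singleton.1 (Ideal.Quotient.eq_zero_iff_mem.1 h)
    rw [← sub_add_cancel x ((p : WittVector p R) * WittVector.teichmuller p a)]
    refine Submodule.add_mem_sup ?_ (Ideal.mul_mem_right _ _ (Ideal.mem_span_singleton_self _))
    rw [mem_IV_iff, map_sub, map_mul, map_natCast]
    show WittVector.constantCoeff x - (p : R) * (WittVector.teichmuller p a).coeff 0 = 0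
    rw [WittVector.teichmuller_coeff_zero, ha, sub_self]
  · intro h
    obtain ⟨u, hu, v, hv, rfl⟩ := Submodule.mem_sup.1 h
    obtain ⟨v, rfl⟩ := Ideal.mem_span_singleton.1 hv
    rw [map_add, map_mul, map_natCast, p_eq_zero, zero_mul, add_zero, chi, RingHom.comp_apply, (mem_IV_iff u).1 hu, map_zero]

variable {P : Type v} [AddCommGroup P] [Module (WittVector p R) P] {ι : Type w} [Fintype ι]

/-- Coordinates. -/
def coordN (b : Module.Basis ι (WittVector p R) P) (N : ℕ) (i : ι) :
    Dieu.BC ((WittVector.frobenius : WittVector p R →+* WittVector p R) ^ N) P →ₗ[WittVector p R] WittVector p R :=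
  Dieu.BC.lift _ ((Dieu.semilinearOfRingHom ((WittVector.frobenius : WittVector p R →+* WittVector p R) ^ N)).comp (b.coord i))

theorem coordN_tmul (b : Module.Basis ι (WittVector p R) P) (N : ℕ) (i : ι) (r : WittVector p R) (y : P) :
    coordN b N i (Dieu.BC.tmul _ r y) = r * ((WittVector.frobenius : WittVector p R →+* WittVector p R) ^ N) (b.repr y i) := by
  rw [coordN, Dieu.BC.lift_tmul]; rfl

theorem sum_coordN (b : Module.Basis ι (WittVector p R) P) (N : ℕ)
    (z : Dieu.BC ((WittVector.frobenius : WittVector p R →+* WittVector p R) ^ N) P) :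
    ∑ i, coordN b N i z • Dieu.BC.tmul _ 1 (b i) = z := by
  induction z using Dieu.BC.induction_on with
  | zero => simp
  | tmul r y =>
    conv_rhs => rw [← b.sum_repr y, Dieu.BC.tmul_eq_smul_tmul_one, ← Dieu.BC.ι_apply, map_sum, Finset.smul_sum]
    refine Finset.sum_congr rfl fun i _ => ?_
    rw [coordN_tmul, LinearMap.map_smulₛₗ, Dieu.BC.ι_apply, smul_smul]
  | add z₁ z₂ h₁ h₂ => simp only [map_add, add_smul, Finset.sum_add_distrib, h₁, h₂]

theorem mem_iff (b : Module.Basis ι (WittVector p R) P) (N : ℕ)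
    (z : Dieu.BC ((WittVector.frobenius : WittVector p R →+* WittVector p R) ^ N) P) :
    z ∈ (IV p R ⊔ Ideal.span {(p : WittVector p R)}) • (⊤ : Submodule (WittVector p R) _) ↔
      ∀ i, chi p R (coordN b N i z) = 0 := by
  constructor
  · intro hz i
    rw [chi_eq_zero_iff]
    refine Submodule.smul_induction_on hz (fun a ha t _ => ?_) fun a b ha hb => by rw [map_add]; exact add_mem ha hb
    rw [map_smul]
    exact Ideal.mul_mem_right _ _ ha
  · intro h
    rw [← sum_coordN b N z]
    exact sum_mem fun i _ => Submodule.smul_mem_smul ((chi_eq_zero_iff _).1 (h i)) Submodule.mem_top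

/-- The reduced matrix of `V^{(n+1)#}`. -/
def mat (b : Module.Basis ι (WittVector p R) P)
    (Vs : P →ₗ[WittVector p R] Dieu.BC (WittVector.frobenius : WittVector p R →+* WittVector p R) P) (n : ℕ) :
    Matrix ι ι (R ⧸ Ideal.span {(p : R)}) :=
  Matrix.of fun r c => chi p R (coordN b (n + 1) r (Dieu.vSharpPow Vs n (b c)))

theorem vPow_mem_iff (b : Module.Basis ι (WittVector p R) P)
    (Vs : P →ₗ[WittVector p R] Dieu.BC (WittVector.frobenius : WittVector p R →+* WittVector p R) P) (n : ℕ) :
    (∀ x, Dieu.vSharpPow Vs n x ∈ (IV p R ⊔ Ideal.span {(p : WittVector p R)}) • (⊤ : Submodule (WittVector p R) _)) ↔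
      mat b Vs n = 0 := by
  constructor
  · intro h
    ext r c
    exact (mem_iff b _ _).1 (h (b c)) r
  · intro h x
    rw [← b.sum_repr x, map_sum]
    refine sum_mem fun c _ => ?_
    rw [map_smul]
    exact Submodule.smul_mem _ _ ((mem_iff b _ _).2 fun r => congrFun (congrFun h r) c)

theorem mat_succ (b : Module.Basis ι (WittVector p R) P)
    (Vs : P →ₗ[WittVector p R] Dieu.BC (WittVector.frobenius : WittVector p R →+* WittVector p R) P) (n : ℕ) :
    mat b Vs (n + 1) = (mat b Vs n).map (Fr p R) * mat b Vs 0 := by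
  classical
  ext r i
  rw [Matrix.mul_apply]
  simp only [mat, Matrix.of_apply, Matrix.map_apply]
  rw [Dieu.vSharpPow_succ_apply]
  simp only [Dieu.vSharpPow_zero_apply]
  generalize Vs (b i) = z
  induction z using Dieu.BC.induction_on with
  | zero => simp
  | tmul a y =>
    have hpush : ∀ u, chi p R (coordN b (n + 1 + 1) r (Dieu.BC.castHom
        (Dieu.comp_pow_eq_pow_succ (WittVector.frobenius : WittVector p R →+* WittVector p R) (n + 1))
        (Dieu.BC.push ((WittVector.frobenius : WittVector p R →+* WittVector p R) ^ (n + 1))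
          (WittVector.frobenius : WittVector p R →+* WittVector p R) u))) = Fr p R (chi p R (coordN b (n + 1) r u)) := by
      intro u
      induction u using Dieu.BC.induction_on with
      | zero => simp
      | tmul e v =>
        rw [Dieu.BC.push_tmul, Dieu.BC.castHom_tmul, coordN_tmul, coordN_tmul,
          pow_succ' (WittVector.frobenius : WittVector p R →+* WittVector p R) (n + 1), RingHom.coe_mul,
          Function.comp_apply, ← map_mul, chi_frobenius]
      | add u₁ u₂ h₁ h₂ => simp only [map_add, h₁, h₂]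
    rw [Dieu.BC.map_tmul, Dieu.BC.lift_tmul, map_smul, map_smul, smul_eq_mul, map_mul, hpush]
    conv_lhs => rw [← b.sum_repr y]
    simp only [map_sum, map_smul, smul_eq_mul, map_mul, Finset.mul_sum]
    refine Finset.sum_congr rfl fun c _ => ?_
    rw [Dieu.BC.castHom_tmul, coordN_tmul, map_mul, pow_one, chi_frobenius]
    ring
  | add z₁ z₂ h₁ h₂ => simp only [map_add, mul_add, Finset.sum_add_distrib, h₁, h₂]

/-- The twisted product `B^(p^(N-1)) ⋯ B`. -/
def prodN {κ : Type w} [Fintype κ] [DecidableEq κ] (B : Matrix κ κ (R ⧸ Ideal.span {(p : R)})) (N : ℕ) :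
    Matrix κ κ (R ⧸ Ideal.span {(p : R)}) :=
  ((List.range N).reverse.map fun i : ℕ => B.map fun x => x ^ p ^ i).prod

theorem prodN_succ' {κ : Type w} [Fintype κ] [DecidableEq κ] (B : Matrix κ κ (R ⧸ Ideal.span {(p : R)})) (N : ℕ) :
    prodN B (N + 1) = B.map (fun x => x ^ p ^ N) * prodN B N := by
  simp [prodN, List.range_succ]

theorem prodN_succ {κ : Type w} [Fintype κ] [DecidableEq κ] (B : Matrix κ κ (R ⧸ Ideal.span {(p : R)})) (N : ℕ) :
    prodN B (N + 1) = (prodN B N).map (Fr p R) * B := by
  induction N with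
  | zero => simp [prodN, List.range_succ]
  | succ N ih =>
    rw [prodN_succ' B (N + 1)]
    conv_rhs => rw [prodN_succ' B N, Matrix.map_mul, Matrix.map_map]
    rw [ih, ← Matrix.mul_assoc]
    congr 2
    ext r c
    simp [Fr, pow_succ, pow_mul]

theorem exists_mat_eq_zero_iff {ιT ιL : Type w} [Fintype ιT] [Fintype ιL] [DecidableEq ιL]
    (b : Module.Basis (ιT ⊕ ιL) (WittVector p R) P)
    (Vs : P →ₗ[WittVector p R] Dieu.BC (WittVector.frobenius : WittVector p R →+* WittVector p R) P)
    (h0 : ∀ t c, mat b Vs 0 (Sum.inl t) c = 0) :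
    (∃ n, mat b Vs n = 0) ↔
      ∃ N, 0 < N ∧ prodN (Matrix.of fun k l => mat b Vs 0 (Sum.inr k) (Sum.inr l)) N = 0 := by
  classical
  set B : Matrix ιL ιL (R ⧸ Ideal.span {(p : R)}) := Matrix.of fun k l => mat b Vs 0 (Sum.inr k) (Sum.inr l) with hB
  have hT : ∀ n t c, mat b Vs n (Sum.inl t) c = 0 := by
    intro n
    induction n with
    | zero => exact h0
    | succ n ih =>
      intro t c
      rw [mat_succ, Matrix.mul_apply]
      exact Finset.sum_eq_zero fun j _ => by rw [Matrix.map_apply, ih, map_zero, zero_mul]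
  have hL : ∀ n, (Matrix.of fun k l => mat b Vs n (Sum.inr k) (Sum.inr l) : Matrix ιL ιL _) = prodN B (n + 1) := by
    intro n
    induction n with
    | zero => simp [prodN, List.range_succ, hB]
    | succ n ih =>
      rw [prodN_succ, ← ih]
      ext k l
      rw [Matrix.of_apply, mat_succ, Matrix.mul_apply, Matrix.mul_apply, Fintype.sum_sum_type]
      simp [h0, hB]
  constructor
  · rintro ⟨n, hn⟩
    refine ⟨n + 1, n.succ_pos, ?_⟩
    rw [← hL n, hn]
    rfl
  · rintro ⟨N, hN, h⟩
    obtain ⟨n, rfl⟩ : ∃ n, N = n + 1 := ⟨N - 1, by omega⟩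
    refine ⟨n + 1, ?_⟩
    ext r c
    rcases r with t | k
    · exact hT _ t c
    · rw [mat_succ, Matrix.mul_apply, Fintype.sum_sum_type, Matrix.zero_apply]
      have h1 : ∀ l, mat b Vs n (Sum.inr k) (Sum.inr l) = 0 := fun l => congrFun (congrFun ((hL n).trans h) k) l
      simp [h0, h1]

end Groth.Agent.DispLib.BlockNilp
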