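import Mathlib.LinearAlgebra.Basis.Basic
import Mathlib.RingTheory.Ideal.Maps
import Mathlib.RingTheory.Ideal.Operations

/-! # Lifting maps commuting with semilinear isomorphisms along a contracted ideal -/

universe u v w z

namespace Groth.Agent.DispLib

variable {W : Type u} [CommRing W] {σ : W →+* W} {P₁ : Type v} [AddCommGroup P₁] [Module W P₁]
  {P₂ : Type w} [AddCommGroup P₂] [Module W P₂] {ι : Type z}

theorem semilinear_mem_map_smul_top (F : P₂ →ₛₗ[σ] P₂) (I : Ideal W) {x : P₂} (hx : x ∈ I • (⊤ : Submodule W P₂)) :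
    F x ∈ I.map σ • (⊤ : Submodule W P₂) := by
  refine Submodule.smul_induction_on hx (fun a ha y _ => ?_) (fun y z hy hz => ?_)
  · rw [map_smulₛₗ]; exact Submodule.smul_mem_smul (Ideal.mem_map_of_mem σ ha) Submodule.mem_top
  · rw [map_add]; exact add_mem hy hz

theorem map_pow_eq_bot (I : Ideal W) (M : ℕ) (h : ∀ a ∈ I, (σ ^ M) a = 0) : I.map (σ ^ M) = ⊥ := by
  rw [eq_bot_iff, Ideal.map_le_iff_le_comap]
  exact fun a ha => h a ha

variable (F₁ : P₁ →ₛₗ[σ] P₁) (F₂ : P₂ →ₛₗ[σ] P₂) (b : Module.Basis ι W P₁) (c : Module.Basis ι W P₁)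

/-- `α ↦ F₂ ∘ α ∘ F₁⁻¹`. -/
noncomputable def conjOp (α : P₁ →ₗ[W] P₂) : P₁ →ₗ[W] P₂ := c.constr W fun j => F₂ (α (b j))

theorem conjOp_add (α β : P₁ →ₗ[W] P₂) : conjOp F₂ b c (α + β) = conjOp F₂ b c α + conjOp F₂ b c β :=
  c.ext fun j => by simp only [conjOp, LinearMap.add_apply, Module.Basis.constr_basis, map_add]

theorem conjOp_fix_iff (hc : ∀ j, c j = F₁ (b j)) (α : P₁ →ₗ[W] P₂) :
    conjOp F₂ b c α = α ↔ ∀ x, F₂ (α x) = α (F₁ x) := by
  constructor
  · intro h x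
    suffices hx : F₂.comp α = α.comp F₁ from LinearMap.congr_fun hx x
    refine b.ext fun j => ?_
    rw [LinearMap.comp_apply, LinearMap.comp_apply, ← hc]
    conv_rhs => rw [← h]
    rw [conjOp, Module.Basis.constr_basis]
  · intro h
    exact c.ext fun j => by rw [conjOp, Module.Basis.constr_basis, h, hc]

theorem conjOp_mem (I : Ideal W) (β : P₁ →ₗ[W] P₂) (h : ∀ x, β x ∈ I • (⊤ : Submodule W P₂)) :
    ∀ x, conjOp F₂ b c β x ∈ I.map σ • (⊤ : Submodule W P₂) := by
  intro x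
  have : x ∈ Submodule.span W (Set.range c) := by rw [c.span_eq]; trivial
  induction this using Submodule.span_induction with
  | mem y hy =>
    obtain ⟨j, rfl⟩ := hy
    rw [conjOp, Module.Basis.constr_basis]
    exact semilinear_mem_map_smul_top F₂ I (h _)
  | zero => rw [map_zero]; exact zero_mem _
  | add y z _ _ hy hz => rw [map_add]; exact add_mem hy hz
  | smul a y _ hy => rw [map_smul]; exact Submodule.smul_mem _ a hy

theorem iterate_conjOp_mem (I : Ideal W) (β : P₁ →ₗ[W] P₂) (h : ∀ x, β x ∈ I • (⊤ : Submodule W P₂)) (t : ℕ) :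
    ∀ x, (conjOp F₂ b c)^[t] β x ∈ I.map (σ ^ t) • (⊤ : Submodule W P₂) := by
  induction t with
  | zero => rw [pow_zero]; simpa [RingHom.one_def, Ideal.map_id] using h
  | succ t ih =>
    rw [Function.iterate_succ_apply', pow_succ', RingHom.mul_def, ← Ideal.map_map]
    exact conjOp_mem F₂ b c _ _ ih

theorem fix_eq_of_sub_mem (hc : ∀ j, c j = F₁ (b j)) (I : Ideal W) (M : ℕ) (hM : ∀ a ∈ I, (σ ^ M) a = 0)
    (α α' : P₁ →ₗ[W] P₂) (hα : ∀ x, F₂ (α x) = α (F₁ x)) (hα' : ∀ x, F₂ (α' x) = α' (F₁ x))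
    (h : ∀ x, α x - α' x ∈ I • (⊤ : Submodule W P₂)) : α = α' := by
  have hd : conjOp F₂ b c (α - α') = α - α' :=
    (conjOp_fix_iff F₁ F₂ b c hc _).2 fun x => by
      rw [LinearMap.sub_apply, LinearMap.sub_apply, map_sub, hα, hα']
  rw [← sub_eq_zero]
  refine LinearMap.ext fun x => ?_
  have h2 := iterate_conjOp_mem F₂ b c I (α - α') h M x
  rw [Function.iterate_fixed hd, map_pow_eq_bot I M hM, Submodule.bot_smul, Submodule.mem_bot] at h2
  exact h2

theorem exists_fix (hc : ∀ j, c j = F₁ (b j)) (I : Ideal W) (hI : I.map σ ≤ I) (M : ℕ) (hM : ∀ a ∈ I, (σ ^ M) a = 0)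
    (α₀ : P₁ →ₗ[W] P₂) (hα₀ : ∀ x, F₂ (α₀ x) - α₀ (F₁ x) ∈ I • (⊤ : Submodule W P₂)) :
    ∃ α : P₁ →ₗ[W] P₂, (∀ x, α x - α₀ x ∈ I • (⊤ : Submodule W P₂)) ∧ ∀ x, F₂ (α x) = α (F₁ x) := by
  let d := conjOp F₂ b c α₀ - α₀
  have hd : ∀ x, d x ∈ I • (⊤ : Submodule W P₂) := by
    intro x
    have : x ∈ Submodule.span W (Set.range c) := by rw [c.span_eq]; trivial
    induction this using Submodule.span_induction with
    | mem y hy =>
      obtain ⟨j, rfl⟩ := hy
      show conjOp F₂ b c α₀ (c j) - α₀ (c j) ∈ _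
      rw [conjOp, Module.Basis.constr_basis, hc]
      exact hα₀ (b j)
    | zero => rw [map_zero]; exact zero_mem _
    | add y z _ _ hy hz => rw [map_add]; exact add_mem hy hz
    | smul a y _ hy => rw [map_smul]; exact Submodule.smul_mem _ a hy
  have hle : ∀ t, I.map (σ ^ t) ≤ I := by
    intro t
    induction t with
    | zero => simp [RingHom.one_def, Ideal.map_id]
    | succ t ih => rw [pow_succ', RingHom.mul_def, ← Ideal.map_map]; exact (Ideal.map_mono ih).trans hI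
  let U : (P₁ →ₗ[W] P₂) →+ (P₁ →ₗ[W] P₂) := AddMonoidHom.mk' (conjOp F₂ b c) (conjOp_add F₂ b c)
  refine ⟨α₀ + ∑ t ∈ Finset.range M, (⇑U)^[t] d, fun x => ?_, ?_⟩
  · rw [LinearMap.add_apply, add_sub_cancel_left, LinearMap.sum_apply]
    exact Submodule.sum_mem _ fun t _ => Submodule.smul_mono_left (hle t) (iterate_conjOp_mem F₂ b c I d hd t x)
  · refine (conjOp_fix_iff F₁ F₂ b c hc _).1 ?_
    show U _ = _
    rw [map_add, map_sum]
    simp only [← Function.iterate_succ_apply']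
    have hz : (⇑U)^[M] d = 0 := LinearMap.ext fun x => by
      have h := iterate_conjOp_mem F₂ b c I d hd M x
      rw [map_pow_eq_bot I M hM, Submodule.bot_smul, Submodule.mem_bot] at h
      exact h
    have h1 := Finset.sum_range_succ' (fun t => (⇑U)^[t] d) M
    rw [Finset.sum_range_succ, hz, add_zero] at h1
    rw [h1, Function.iterate_zero_apply, show U α₀ = α₀ + d from (add_sub_cancel α₀ _).symm]
    abel

end Groth.Agent.DispLib
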