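import Mathlib.RingTheory.Finiteness.Nakayama
import Mathlib.Algebra.Module.Torsion.Basic
import Mathlib.Algebra.Module.Projective
import Mathlib.LinearAlgebra.Matrix.Adjugate
import Mathlib.LinearAlgebra.Basis.VectorSpace
import Mathlib.LinearAlgebra.FiniteDimensional.Basic
import Mathlib.RingTheory.Ideal.Quotient.Operations

/-! # Cokernels of semilinear exact pairs -/

universe u v

namespace Groth.Agent.DispLib.Split

variable {A : Type u} [CommRing A] {N : Type v} [AddCommGroup N] [Module A N]

/-- Generators modulo a submodule, independent at a maximal ideal. -/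
theorem exists_gens (m : Ideal A) [hm : m.IsMaximal] [Module.Finite A N] (U : Submodule A N) :
    ∃ (n : ℕ) (e : Fin n → N) (s : A), s ∉ m ∧
      (∀ x, ∃ c : Fin n → A, s • x - ∑ i, c i • e i ∈ U) ∧
      (∀ c : Fin n → A, ∑ i, c i • e i ∈ U ⊔ m • ⊤ → ∀ i, c i ∈ m) := by
  classical
  letI : Field (A ⧸ m) := Ideal.Quotient.field m
  let T := N ⧸ U
  let Q := T ⧸ m • (⊤ : Submodule A T)
  haveI : Module.Finite (A ⧸ m) Q := Module.Finite.of_restrictScalars_finite A _ _
  let b := Module.finBasis (A ⧸ m) Q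
  choose e' he' using fun i => Submodule.Quotient.mk_surjective (m • (⊤ : Submodule A T)) (b i)
  choose e he using fun i => Submodule.Quotient.mk_surjective U (e' i)
  let S : Submodule A T := Submodule.span A (Set.range e')
  have hle : (⊤ : Submodule A (T ⧸ S)) ≤ m • (⊤ : Submodule A (T ⧸ S)) := by
    rintro z -
    obtain ⟨t, rfl⟩ := Submodule.Quotient.mk_surjective _ z
    have ht : (Submodule.Quotient.mk t : Q) ∈ Submodule.span (A ⧸ m) (Set.range b) := by
      rw [b.span_eq]; trivial
    rw [Submodule.mem_span_range_iff_exists_fun] at ht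
    obtain ⟨c, hc⟩ := ht
    choose c' hc' using fun i => Ideal.Quotient.mk_surjective (c i)
    have h0 : t - ∑ i, c' i • e' i ∈ m • (⊤ : Submodule A T) := by
      rw [← Submodule.Quotient.mk_eq_zero, Submodule.Quotient.mk_sub, sub_eq_zero, ← hc,
        ← Submodule.mkQ_apply, map_sum]
      refine Finset.sum_congr rfl fun i _ => ?_
      rw [map_smul, Submodule.mkQ_apply, he', ← hc']
      rfl
    have h1 := Submodule.mem_map_of_mem (f := S.mkQ) h0
    rw [Submodule.map_smul''] at h1
    have h2 : S.mkQ (∑ i, c' i • e' i) = 0 := (Submodule.Quotient.mk_eq_zero _).2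
      (sum_mem fun i _ => S.smul_mem _ (Submodule.subset_span ⟨i, rfl⟩))
    rw [map_sub, h2, sub_zero] at h1
    exact Submodule.smul_mono le_rfl le_top h1
  obtain ⟨s, hs, hs0⟩ := Submodule.exists_sub_one_mem_and_smul_eq_zero_of_fg_of_le_smul m ⊤
    Module.Finite.fg_top hle
  refine ⟨_, e, s, fun hsm => hm.ne_top ((Ideal.eq_top_iff_one _).2 ?_), fun x => ?_, fun c hc i => ?_⟩
  · simpa using sub_mem hsm hs
  · have := hs0 (Submodule.Quotient.mk (Submodule.Quotient.mk x)) Submodule.mem_top
    rw [← Submodule.Quotient.mk_smul, Submodule.Quotient.mk_eq_zero,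
      Submodule.mem_span_range_iff_exists_fun] at this
    obtain ⟨c, hc⟩ := this
    refine ⟨c, (Submodule.Quotient.eq U).1 ?_⟩
    rw [Submodule.Quotient.mk_smul, ← hc, ← Submodule.mkQ_apply, map_sum]
    exact Finset.sum_congr rfl fun i _ => by rw [map_smul, Submodule.mkQ_apply, he]
  · have h1 := Submodule.mem_map_of_mem (f := U.mkQ) hc
    rw [Submodule.map_sup, Submodule.mkQ_map_self, bot_sup_eq, Submodule.map_smul''] at h1
    replace h1 := Submodule.smul_mono le_rfl le_top h1
    rw [← Submodule.Quotient.mk_eq_zero, ← Submodule.mkQ_apply, map_sum, map_sum] at h1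
    have h2 : ∑ j, Ideal.Quotient.mk m (c j) • b j = 0 := by
      rw [← h1]
      refine Finset.sum_congr rfl fun j _ => ?_
      rw [map_smul, map_smul, Submodule.mkQ_apply U, he, Submodule.mkQ_apply, he']
      rfl
    exact Ideal.Quotient.eq_zero_iff_mem.1 (Fintype.linearIndependent_iff.1 b.linearIndependent _ h2 i)

/-- If `U`, `U'` are the images of a semilinear pair which is exact modulo every maximal ideal, then
`N ⧸ U` is projective. -/
theorem projective_quotient [Module.Finite A N] [Module.Projective A N] (σ : A ≃+* A)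
    (hσ : ∀ m : Ideal A, m.IsMaximal → ∀ a, σ a ∈ m → a ∈ m)
    (hσ' : ∀ m : Ideal A, m.IsMaximal → ∀ a, σ.symm a ∈ m → a ∈ m)
    (V : N →+ N) (hV : ∀ (a : A) x, V (σ a • x) = a • V x) (U' : Submodule A N) (hVU' : ∀ x ∈ U', V x = 0)
    (hexact : ∀ m : Ideal A, m.IsMaximal → ∀ x, V x ∈ m • (⊤ : Submodule A N) → x ∈ U' ⊔ m • ⊤) :
    Module.Projective A (N ⧸ Submodule.span A (Set.range V)) := by
  classical
  set U := Submodule.span A (Set.range V) with hU
  let J : Ideal A :=
    { carrier := {u | ∃ h : (N ⧸ U) →ₗ[A] N, U.mkQ ∘ₗ h = u • LinearMap.id}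
      add_mem' := by
        rintro a b ⟨h, hh⟩ ⟨g, hg⟩
        exact ⟨h + g, by rw [LinearMap.comp_add, hh, hg, add_smul]⟩
      zero_mem' := ⟨0, by simp⟩
      smul_mem' := by
        rintro c a ⟨h, hh⟩
        exact ⟨c • h, by rw [LinearMap.comp_smul, hh, smul_smul, smul_eq_mul]⟩ }
  suffices hJ : (1 : A) ∈ J by
    obtain ⟨h, hh⟩ := hJ
    exact Module.Projective.of_split h U.mkQ (by rw [hh, one_smul])
  rw [← Ideal.eq_top_iff_one]
  by_contra hne
  obtain ⟨m, hm, hle⟩ := Ideal.exists_le_maximal J hne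
  haveI := hm
  obtain ⟨n, e, s, hs, hse, hie⟩ := exists_gens m U
  obtain ⟨n', f, t, ht, htf, hif⟩ := exists_gens m U'
  let w : Fin n ⊕ Fin n' → N := Sum.elim e fun j => V (f j)
  have hVm : ∀ z ∈ U, ∃ d : Fin n' → A, σ.symm t • z = ∑ j, d j • V (f j) := by
    intro z hz
    induction hz using Submodule.span_induction with
    | mem y hy =>
      obtain ⟨x, rfl⟩ := hy
      obtain ⟨c, hc⟩ := htf x
      have h0 := hVU' _ hc
      rw [map_sub, sub_eq_zero, map_sum] at h0
      refine ⟨fun j => σ.symm (c j), ?_⟩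
      rw [← hV, RingEquiv.apply_symm_apply, h0]
      exact Finset.sum_congr rfl fun j _ => by rw [← hV, RingEquiv.apply_symm_apply]
    | zero => exact ⟨0, by simp⟩
    | add a b _ _ ha hb =>
      obtain ⟨c, hc⟩ := ha
      obtain ⟨d, hd⟩ := hb
      exact ⟨c + d, by simp [hc, hd, add_smul, Finset.sum_add_distrib]⟩
    | smul r y _ hy =>
      obtain ⟨d, hd⟩ := hy
      exact ⟨r • d, by rw [smul_comm, hd, Finset.smul_sum]; simp [mul_smul]⟩
  -- independence modulo `m`
  letI : Field (A ⧸ m) := Ideal.Quotient.field m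
  let Nb := N ⧸ m • (⊤ : Submodule A N)
  have hind : LinearIndependent (A ⧸ m) fun i => (Submodule.Quotient.mk (w i) : Nb) := by
    rw [Fintype.linearIndependent_iff]
    intro g hg
    choose g' hg' using fun i => Ideal.Quotient.mk_surjective (g i)
    have h0 : ∑ i, g' i • w i ∈ m • (⊤ : Submodule A N) := by
      rw [← Submodule.Quotient.mk_eq_zero, ← hg, ← Submodule.mkQ_apply, map_sum]
      refine Finset.sum_congr rfl fun i _ => ?_
      rw [map_smul, ← hg']
      rfl
    simp only [Fintype.sum_sum_type, w, Sum.elim_inl, Sum.elim_inr] at h0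
    have hUm : ∑ j, g' (Sum.inr j) • V (f j) ∈ U :=
      sum_mem fun j _ => U.smul_mem _ (Submodule.subset_span ⟨_, rfl⟩)
    have he : ∀ i, g' (Sum.inl i) ∈ m := hie (fun i => g' (Sum.inl i)) (by
      rw [← add_sub_cancel_right (∑ i, g' (Sum.inl i) • e i) (∑ j, g' (Sum.inr j) • V (f j))]
      exact sub_mem (Submodule.mem_sup_right h0) (Submodule.mem_sup_left hUm))
    have h1 : V (∑ j, σ (g' (Sum.inr j)) • f j) ∈ m • (⊤ : Submodule A N) := by
      rw [map_sum, Finset.sum_congr rfl fun j _ => hV (g' (Sum.inr j)) (f j),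
        ← add_sub_cancel_left (∑ i, g' (Sum.inl i) • e i) (∑ j, g' (Sum.inr j) • V (f j))]
      exact sub_mem h0 (sum_mem fun i _ => Submodule.smul_mem_smul (he i) Submodule.mem_top)
    have hf : ∀ j, g' (Sum.inr j) ∈ m := fun j =>
      hσ m hm _ (hif _ (hexact m hm _ h1) j)
    intro i
    rw [← hg', Ideal.Quotient.eq_zero_iff_mem]
    rcases i with i | j
    exacts [he i, hf j]
  -- coordinates
  obtain ⟨L, hL⟩ := (Fintype.linearCombination (A ⧸ m) fun i => (Submodule.Quotient.mk (w i) : Nb)).exists_leftInverse_of_injective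
    (LinearMap.ker_eq_bot.2 hind.fintypeLinearCombination_injective)
  choose g hg using fun i : Fin n ⊕ Fin n' =>
    Module.projective_lifting_property (Algebra.linearMap A (A ⧸ m))
      ((LinearMap.proj i).comp ((L.restrictScalars A).comp (m • (⊤ : Submodule A N)).mkQ))
      Ideal.Quotient.mk_surjective
  let M : Matrix (Fin n ⊕ Fin n') (Fin n ⊕ Fin n') A := Matrix.of fun i j => g i (w j)
  have hM : M.map (Ideal.Quotient.mk m) = 1 := by
    ext i j
    have h1 := LinearMap.congr_fun (hg i) (w j)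
    have h2 := LinearMap.congr_fun hL (Pi.single j 1)
    rw [LinearMap.comp_apply, Fintype.linearCombination_apply_single, one_smul, LinearMap.id_apply] at h2
    simp only [LinearMap.comp_apply, Algebra.linearMap_apply, LinearMap.proj_apply,
      LinearMap.restrictScalars_apply, Submodule.mkQ_apply, h2] at h1
    change Ideal.Quotient.mk m (g i (w j)) = _
    rw [← Ideal.Quotient.algebraMap_eq, h1, Matrix.one_apply, Pi.single_apply]
  have hd : M.det ∉ m := fun hmem => by
    have h1 := RingHom.map_det (Ideal.Quotient.mk m) M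
    rw [RingHom.mapMatrix_apply, hM, Matrix.det_one, Ideal.Quotient.eq_zero_iff_mem.2 hmem] at h1
    exact zero_ne_one h1
  let G : N →ₗ[A] (Fin n ⊕ Fin n' → A) := M.adjugate.mulVecLin ∘ₗ LinearMap.pi g
  have hG : ∀ c : Fin n ⊕ Fin n' → A, G (∑ i, c i • w i) = M.det • c := by
    intro c
    have : LinearMap.pi g (∑ i, c i • w i) = M.mulVec c := by
      funext i
      simp [M, Matrix.mulVec, dotProduct, map_sum, mul_comm]
    rw [LinearMap.comp_apply, this, Matrix.mulVecLin_apply, Matrix.mulVec_mulVec, Matrix.adjugate_mul,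
      Matrix.smul_mulVec, Matrix.one_mulVec]
  let le : (Fin n ⊕ Fin n' → A) →ₗ[A] N := (Fintype.linearCombination A e).comp (LinearMap.funLeft A A Sum.inl)
  have hle' : ∀ c, le c = ∑ i, c (Sum.inl i) • e i := fun c => by
    simp [le, Fintype.linearCombination_apply, LinearMap.funLeft_apply]
  let π : N →ₗ[A] N := (s * σ.symm t) • le.comp G
  have hπ : U ≤ LinearMap.ker π := by
    intro z hz
    obtain ⟨d, hd'⟩ := hVm z hz
    rw [LinearMap.mem_ker, LinearMap.smul_apply, LinearMap.comp_apply, mul_smul, ← map_smul le (σ.symm t),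
      ← map_smul G, hd']
    have := hG (Sum.elim 0 d)
    simp only [Fintype.sum_sum_type, w, Sum.elim_inl, Sum.elim_inr, Pi.zero_apply, zero_smul,
      Finset.sum_const_zero, zero_add] at this
    rw [this, map_smul, hle']
    simp
  have hu : s * σ.symm t * M.det ∈ J := by
    refine ⟨U.liftQ π hπ, Submodule.linearMap_qext _ (LinearMap.ext fun x => ?_)⟩
    simp only [LinearMap.comp_apply, Submodule.mkQ_apply, Submodule.liftQ_apply, LinearMap.smul_apply, LinearMap.id_apply]
    rw [← Submodule.Quotient.mk_smul, Submodule.Quotient.eq]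
    obtain ⟨c, hc⟩ := hse x
    obtain ⟨d, hd'⟩ := hVm _ hc
    let cc : Fin n ⊕ Fin n' → A := Sum.elim (fun i => σ.symm t * c i) d
    have hx : (s * σ.symm t) • x = ∑ i, cc i • w i := by
      simp only [Fintype.sum_sum_type, cc, w, Sum.elim_inl, Sum.elim_inr]
      rw [← hd', smul_sub, Finset.smul_sum, smul_smul, mul_comm s]
      simp only [smul_smul]
      abel
    have hπx : π x = M.det • ∑ i, cc (Sum.inl i) • e i := by
      simp only [π, LinearMap.smul_apply, LinearMap.comp_apply]
      rw [← map_smul, ← map_smul, hx, hG, map_smul, hle']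
    rw [hπx, mul_comm, mul_smul, hx, Fintype.sum_sum_type]
    simp only [cc, w, Sum.elim_inl, Sum.elim_inr, smul_add, sub_add_cancel_left]
    exact neg_mem (U.smul_mem _ (sum_mem fun j _ => U.smul_mem _ (Submodule.subset_span ⟨_, rfl⟩)))
  refine hd ((hm.isPrime.mem_or_mem (hle hu)).resolve_left fun h => ?_)
  rcases hm.isPrime.mem_or_mem h with h | h
  exacts [hs h, ht (hσ' m hm t h)]

end Groth.Agent.DispLib.Split
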