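import Groth.Agent.DispLib.Basic
import Groth.Agent.DispLib.SplitLemma
import Mathlib.FieldTheory.Perfect
import Mathlib.RingTheory.WittVector.Frobenius
import Mathlib.Algebra.Module.Torsion.Basic

/-! # Exactness of `F`, `V` on projective Dieudonné modules over perfect rings -/

universe u v

namespace Groth.Agent.DispLib.ExactFV

open WittVector

variable {p : ℕ} [hp : Fact p.Prime] {k : Type u} [CommRing k] [CharP k p] [PerfectRing k p]


variable {M : Type v} [AddCommGroup M] [Module (WittVector p k) M]
  (Q : Type u) [CommRing Q] [Algebra (WittVector p k) Q] [Module Q M] [IsScalarTower (WittVector p k) Q M]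

theorem smul_cancel (hJ : RingHom.ker (algebraMap (WittVector p k) Q) ≤ Ideal.span {(p : (WittVector p k)) ^ 2})
    (hQ : Function.Surjective (algebraMap (WittVector p k) Q)) [Module.Projective Q M]
    {K : Type u} [CommRing K] [CharP K p] [PerfectRing K p] (φ : (WittVector p k) →+* WittVector p K)
    (hφ : Function.Surjective φ) {z : M} (hz : (p : (WittVector p k)) • z ∈ RingHom.ker φ • (⊤ : Submodule (WittVector p k) M)) :
    z ∈ (RingHom.ker φ ⊔ Ideal.span {(p : (WittVector p k))}) • (⊤ : Submodule (WittVector p k) M) := by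
  classical
  obtain ⟨s, hs⟩ := Module.projective_def.1 (inferInstance : Module.Projective Q M)
  let co : M → M →ₗ[(WittVector p k)] Q := fun i => ((Finsupp.lapply i).comp s).restrictScalars (WittVector p k)
  have hmem : ∀ i, ∀ y ∈ RingHom.ker φ • (⊤ : Submodule (WittVector p k) M),
      ∃ r ∈ RingHom.ker φ, algebraMap (WittVector p k) Q r = co i y := by
    intro i y hy
    refine Submodule.smul_induction_on hy (fun r hr n _ => ?_) fun a b ha hb => ?_
    · obtain ⟨r', hr'⟩ := hQ (co i n)
      exact ⟨r * r', Ideal.mul_mem_right _ _ hr, by rw [map_smul, map_mul, hr', Algebra.smul_def]⟩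
    · obtain ⟨r, hr, e⟩ := ha
      obtain ⟨r', hr', e'⟩ := hb
      exact ⟨r + r', add_mem hr hr', by rw [map_add, map_add, e, e']⟩
  rw [← hs z, Finsupp.linearCombination_apply]
  refine sum_mem fun i _ => ?_
  obtain ⟨w, hw⟩ := hQ ((s z) i)
  change (s z) i • i ∈ _
  rw [← hw, algebraMap_smul]
  refine Submodule.smul_mem_smul ?_ Submodule.mem_top
  obtain ⟨r, hr, e⟩ := hmem i _ hz
  have h0 : (p : (WittVector p k)) * w - r ∈ RingHom.ker (algebraMap (WittVector p k) Q) := by
    rw [RingHom.mem_ker, map_sub, e, map_smul, map_mul, hw, Algebra.smul_def, sub_eq_zero]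
    rfl
  obtain ⟨u, hu⟩ := Ideal.mem_span_singleton.1 (hJ h0)
  have h1 := congrArg φ hu
  rw [map_sub, map_mul, map_mul, map_pow, map_natCast, RingHom.mem_ker.1 hr, sub_zero] at h1
  have h2 : φ w = (p : WittVector p K) * φ u := by
    apply (WittVector.frobenius_bijective (p := p) (R := K)).1
    apply WittVector.verschiebung_injective
    rw [WittVector.verschiebung_frobenius, WittVector.verschiebung_frobenius, mul_comm (φ w), h1]
    ring
  rw [show w = (w - (p : (WittVector p k)) * u) + (p : (WittVector p k)) * u by ring]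
  refine Submodule.add_mem_sup ?_ (Ideal.mul_mem_right _ _ (Ideal.subset_span rfl))
  rw [RingHom.mem_ker, map_sub, map_mul, map_natCast, h2, sub_self]

/-- If `F ∘ G = p`, `G ∘ F = p` and `G` preserves `ker φ`, then the preimage of `(ker φ + p)M` under
`F` is contained in the image of `G` plus `(ker φ + p)M`. -/
theorem exact_mod (hJ : RingHom.ker (algebraMap (WittVector p k) Q) ≤ Ideal.span {(p : (WittVector p k)) ^ 2})
    (hQ : Function.Surjective (algebraMap (WittVector p k) Q)) [Module.Projective Q M]
    {K : Type u} [CommRing K] [CharP K p] [PerfectRing K p] (φ : (WittVector p k) →+* WittVector p K)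
    (hφ : Function.Surjective φ) {τ τ' : (WittVector p k) →+* (WittVector p k)} (F : M →ₛₗ[τ] M) (G : M →ₛₗ[τ'] M)
    (hFG : ∀ m, F (G m) = (p : (WittVector p k)) • m) (hGF : ∀ m, G (F m) = (p : (WittVector p k)) • m)
    (hτ' : ∀ a, φ a = 0 → φ (τ' a) = 0) {x : M}
    (hx : F x ∈ (RingHom.ker φ ⊔ Ideal.span {(p : (WittVector p k))}) • (⊤ : Submodule (WittVector p k) M)) :
    x ∈ Submodule.span (WittVector p k) (Set.range G) ⊔ (RingHom.ker φ ⊔ Ideal.span {(p : (WittVector p k))}) • (⊤ : Submodule (WittVector p k) M) := by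
  rw [Submodule.sup_smul, Submodule.mem_sup] at hx
  obtain ⟨r, hr, y', hy', hxy⟩ := hx
  rw [Submodule.ideal_span_singleton_smul, Submodule.mem_smul_pointwise_iff_exists] at hy'
  obtain ⟨y, -, rfl⟩ := hy'
  have h1 : G r ∈ RingHom.ker φ • (⊤ : Submodule (WittVector p k) M) := by
    refine Submodule.smul_induction_on hr (fun a ha n _ => ?_) fun a b ha hb => ?_
    · rw [LinearMap.map_smulₛₗ]
      exact Submodule.smul_mem_smul (hτ' a ha) Submodule.mem_top
    · rw [map_add]; exact add_mem ha hb
  have h2 : (p : (WittVector p k)) • (x - G y) ∈ RingHom.ker φ • (⊤ : Submodule (WittVector p k) M) := by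
    rw [← hGF, map_sub, hFG, ← hxy, add_sub_cancel_right]
    exact h1
  rw [← add_sub_cancel (G y) x]
  exact Submodule.add_mem_sup (Submodule.subset_span ⟨_, rfl⟩) (smul_cancel Q hJ hQ φ hφ h2)

variable (F : M →ₛₗ[(WittVector.frobenius : (WittVector p k) →+* (WittVector p k))] M)
  (V : M →ₛₗ[((WittVector.frobeniusEquiv p k).symm : (WittVector p k) →+* (WittVector p k))] M)
  (hFV : ∀ m, F (V m) = (p : (WittVector p k)) • m) (hVF : ∀ m, V (F m) = (p : (WittVector p k)) • m)

theorem span_le_comap {τ τ' : (WittVector p k) →+* (WittVector p k)} (G : M →ₛₗ[τ] M) (H : M →ₛₗ[τ'] M) (h : ∀ m, G (H m) = (p : (WittVector p k)) • m) :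
    Submodule.span (WittVector p k) (Set.range H) ⊔ Ideal.span {(p : (WittVector p k))} • (⊤ : Submodule (WittVector p k) M) ≤
      (Ideal.span {(p : (WittVector p k))} • (⊤ : Submodule (WittVector p k) M)).comap G := by
  refine sup_le (Submodule.span_le.2 ?_) ?_
  · rintro _ ⟨y, rfl⟩
    rw [SetLike.mem_coe, Submodule.mem_comap, h]
    exact Submodule.smul_mem_smul (Ideal.subset_span rfl) Submodule.mem_top
  · rw [Submodule.ideal_span_singleton_smul]
    intro z hz
    rw [Submodule.mem_smul_pointwise_iff_exists] at hz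
    obtain ⟨y, -, rfl⟩ := hz
    rw [Submodule.mem_comap, LinearMap.map_smulₛₗ, map_natCast]
    exact Submodule.smul_mem_pointwise_smul _ _ _ Submodule.mem_top

include hFV hVF in
theorem comap_eq (hJ : RingHom.ker (algebraMap (WittVector p k) Q) ≤ Ideal.span {(p : (WittVector p k)) ^ 2})
    (hQ : Function.Surjective (algebraMap (WittVector p k) Q)) [Module.Projective Q M] :
    (Ideal.span {(p : (WittVector p k))} • (⊤ : Submodule (WittVector p k) M)).comap F =
        Submodule.span (WittVector p k) (Set.range V) ⊔ Ideal.span {(p : (WittVector p k))} • (⊤ : Submodule (WittVector p k) M) ∧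
      (Ideal.span {(p : (WittVector p k))} • (⊤ : Submodule (WittVector p k) M)).comap V =
        Submodule.span (WittVector p k) (Set.range F) ⊔ Ideal.span {(p : (WittVector p k))} • (⊤ : Submodule (WittVector p k) M) := by
  have hid : RingHom.ker (RingHom.id (WittVector p k)) ⊔ Ideal.span {(p : (WittVector p k))} = Ideal.span {(p : (WittVector p k))} :=
    sup_eq_right.2 fun x hx => by rw [show x = 0 from hx]; exact zero_mem _
  refine ⟨le_antisymm (fun x hx => ?_) (span_le_comap F V hFV),
    le_antisymm (fun x hx => ?_) (span_le_comap V F hVF)⟩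
  · have h := exact_mod Q hJ hQ (RingHom.id (WittVector p k)) Function.surjective_id F V hFV hVF
      (fun a ha => by rw [show a = 0 from ha, map_zero, map_zero]) (x := x) (by rw [hid]; exact hx)
    rwa [hid] at h
  · have h := exact_mod Q hJ hQ (RingHom.id (WittVector p k)) Function.surjective_id V F hVF hFV
      (fun a ha => by rw [show a = 0 from ha, map_zero, map_zero]) (x := x) (by rw [hid]; exact hx)
    rwa [hid] at h

/-- Reduction of coordinates: `M/pM` is projective over `(WittVector p k)/p`. -/
theorem projective_mod_p (hJ : RingHom.ker (algebraMap (WittVector p k) Q) ≤ Ideal.span {(p : (WittVector p k)) ^ 2})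
    (hQ : Function.Surjective (algebraMap (WittVector p k) Q)) [Module.Projective Q M] :
    Module.Projective ((WittVector p k) ⧸ Ideal.span {(p : (WittVector p k))}) (M ⧸ (Ideal.span {(p : (WittVector p k))} • (⊤ : Submodule (WittVector p k) M))) := by
  classical
  set I := Ideal.span {(p : (WittVector p k))}
  obtain ⟨s, hs⟩ := Module.projective_def.1 (inferInstance : Module.Projective Q M)
  have hker : RingHom.ker (algebraMap (WittVector p k) Q) ≤ I :=
    hJ.trans (Ideal.span_singleton_le_span_singleton.2 (dvd_pow_self _ two_ne_zero))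
  choose sec hsec using hQ
  let r : Q →+* (WittVector p k) ⧸ I := RingHom.liftOfRightInverse (algebraMap (WittVector p k) Q) sec hsec
    ⟨Ideal.Quotient.mk I, hker.trans_eq Ideal.mk_ker.symm⟩
  have hr : ∀ w, r (algebraMap (WittVector p k) Q w) = Ideal.Quotient.mk I w := fun w =>
    RingHom.liftOfRightInverse_comp_apply _ _ hsec _ w
  let rl : Q →ₗ[(WittVector p k)] (WittVector p k) ⧸ I :=
    { toFun := r
      map_add' := map_add r
      map_smul' := fun a q => by rw [Algebra.smul_def, map_mul, hr]; rfl }
  let g₀ : M →ₗ[(WittVector p k)] (M →₀ ((WittVector p k) ⧸ I)) := (Finsupp.mapRange.linearMap rl).comp (s.restrictScalars (WittVector p k))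
  have hg₀ : I • (⊤ : Submodule (WittVector p k) M) ≤ LinearMap.ker g₀ := by
    rw [Submodule.smul_le]
    intro a ha n _
    rw [LinearMap.mem_ker, map_smul]
    ext i
    rw [Finsupp.smul_apply, Algebra.smul_def, Ideal.Quotient.algebraMap_eq, Ideal.Quotient.eq_zero_iff_mem.2 ha, zero_mul]
    rfl
  let g : (M ⧸ I • (⊤ : Submodule (WittVector p k) M)) →ₗ[(WittVector p k) ⧸ I] (M →₀ ((WittVector p k) ⧸ I)) :=
    LinearMap.extendScalarsOfSurjective (S := (WittVector p k) ⧸ I) Ideal.Quotient.mk_surjective (Submodule.liftQ _ g₀ hg₀)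
  refine Module.Projective.of_split g
    (Finsupp.linearCombination ((WittVector p k) ⧸ I) fun m : M => (Submodule.Quotient.mk m : M ⧸ I • (⊤ : Submodule (WittVector p k) M)))
    (LinearMap.ext fun z => ?_)
  obtain ⟨m, rfl⟩ := Submodule.Quotient.mk_surjective _ z
  have key : ∀ c : M →₀ Q, Finsupp.linearCombination ((WittVector p k) ⧸ I) (fun m : M => (Submodule.Quotient.mk m : M ⧸ I • (⊤ : Submodule (WittVector p k) M)))
      (Finsupp.mapRange.linearMap rl c) = Submodule.Quotient.mk (Finsupp.linearCombination Q id c) := by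
    intro c
    induction c using Finsupp.induction_linear with
    | zero => simp
    | add a b ha hb => rw [map_add, map_add, ha, hb, map_add, Submodule.Quotient.mk_add]
    | single i q =>
      rw [Finsupp.mapRange.linearMap_apply, Finsupp.mapRange_single, Finsupp.linearCombination_single,
        Finsupp.linearCombination_single, ← hsec q]
      change r _ • _ = _
      rw [hr, algebraMap_smul, Submodule.Quotient.mk_smul]
      rfl
  rw [LinearMap.comp_apply, LinearMap.id_apply, LinearMap.extendScalarsOfSurjective_apply, Submodule.liftQ_apply]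
  exact (key (s m)).trans (congrArg _ (hs m))

include hFV hVF in
theorem projective_coker (hJ : RingHom.ker (algebraMap (WittVector p k) Q) ≤ Ideal.span {(p : (WittVector p k)) ^ 2})
    (hQ : Function.Surjective (algebraMap (WittVector p k) Q)) [Module.Projective Q M] [Module.Finite (WittVector p k) M] :
    Module.Projective ((WittVector p k) ⧸ Ideal.span {(p : (WittVector p k))})
      ((M ⧸ (Ideal.span {(p : (WittVector p k))} • (⊤ : Submodule (WittVector p k) M))) ⧸
        Submodule.span ((WittVector p k) ⧸ Ideal.span {(p : (WittVector p k))})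
          (Set.range fun m : M => (Ideal.span {(p : (WittVector p k))} • (⊤ : Submodule (WittVector p k) M)).mkQ (V m))) := by
  haveI := projective_mod_p (M := M) Q hJ hQ
  set I := Ideal.span {(p : (WittVector p k))} with hI
  set P0 := I • (⊤ : Submodule (WittVector p k) M) with hP0
  haveI : Module.Finite ((WittVector p k) ⧸ I) (M ⧸ P0) := Module.Finite.of_restrictScalars_finite (WittVector p k) _ _
  have hp0 : IsNilpotent (p : k) := ⟨1, by rw [pow_one, CharP.cast_eq_zero]⟩
  let fe := WittVector.frobeniusEquiv p k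
  have hmap : I = I.map (fe : (WittVector p k) →+* (WittVector p k)) := by
    rw [hI, Ideal.map_span, Set.image_singleton, map_natCast]
  let σA : ((WittVector p k) ⧸ I) ≃+* ((WittVector p k) ⧸ I) := Ideal.quotientEquiv I I fe hmap
  have hσA : ∀ a : (WittVector p k), σA (Ideal.Quotient.mk I a) = Ideal.Quotient.mk I (WittVector.frobenius a) := fun a => by
    rw [Ideal.quotientEquiv_mk]; rfl
  have hiff : ∀ (m' : Ideal (WittVector p k)), m'.IsMaximal → ∀ a, WittVector.frobenius a ∈ m' ↔ a ∈ m' := by
    intro m' hm' a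
    haveI := hm'
    refine ⟨fun h => ?_, frobenius_mem_of_mem hp0 m'⟩
    have hmax : (m'.comap (fe : (WittVector p k) →+* (WittVector p k))).IsMaximal := Ideal.comap_isMaximal_of_surjective _ fe.surjective
    rw [hm'.eq_of_le hmax.ne_top fun b hb => frobenius_mem_of_mem hp0 m' hb]
    exact h
  have hσ : ∀ m : Ideal ((WittVector p k) ⧸ I), m.IsMaximal → ∀ a, σA a ∈ m ↔ a ∈ m := by
    intro m hm a
    obtain ⟨a, rfl⟩ := Ideal.Quotient.mk_surjective a
    rw [hσA]
    exact hiff (m.comap (Ideal.Quotient.mk I)) (Ideal.comap_isMaximal_of_surjective _ Ideal.Quotient.mk_surjective) a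
  -- the induced maps
  have hsmul : ∀ (a : (WittVector p k)) (y : M), (Ideal.Quotient.mk I a) • P0.mkQ y = P0.mkQ (a • y) := fun a y => by
    rw [map_smul]; rfl
  have hVker : ∀ y ∈ P0, V y ∈ P0 := by
    intro y hy
    refine Submodule.smul_induction_on hy (fun r hr n _ => ?_) fun a b ha hb => by rw [map_add]; exact add_mem ha hb
    obtain ⟨r, rfl⟩ := Ideal.mem_span_singleton'.1 hr
    rw [LinearMap.map_smulₛₗ, map_mul, map_natCast]
    exact Submodule.smul_mem_smul (Ideal.mul_mem_left _ _ (Ideal.subset_span rfl)) Submodule.mem_top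
  let Vb : (M ⧸ P0) →+ (M ⧸ P0) :=
    QuotientAddGroup.map P0.toAddSubgroup P0.toAddSubgroup V.toAddMonoidHom fun y hy => hVker y hy
  have hVb : ∀ y, Vb (P0.mkQ y) = P0.mkQ (V y) := fun y => rfl
  have hrange : Submodule.span ((WittVector p k) ⧸ I) (Set.range fun m : M => P0.mkQ (V m)) =
      Submodule.span ((WittVector p k) ⧸ I) (Set.range Vb) := by
    congr 1
    ext z
    constructor
    · rintro ⟨y, rfl⟩; exact ⟨P0.mkQ y, rfl⟩
    · rintro ⟨y, rfl⟩
      obtain ⟨y, rfl⟩ := Submodule.Quotient.mk_surjective _ y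
      exact ⟨y, rfl⟩
  rw [hrange]
  refine Split.projective_quotient σA (fun m hm a h => (hσ m hm a).1 h)
    (fun m hm a h => ?_) Vb (fun a x => ?_)
    (Submodule.span ((WittVector p k) ⧸ I) (Set.range fun m : M => P0.mkQ (F m))) ?_ ?_
  · simpa using (hσ m hm (σA.symm a)).2 h
  · obtain ⟨a, rfl⟩ := Ideal.Quotient.mk_surjective a
    obtain ⟨y, rfl⟩ := Submodule.Quotient.mk_surjective _ x
    rw [← Submodule.mkQ_apply, hσA, hsmul, hVb, hVb, hsmul, LinearMap.map_smulₛₗ]
    congr 2
    exact fe.symm_apply_apply a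
  · intro z hz
    induction hz using Submodule.span_induction with
    | mem y hy =>
      obtain ⟨y, rfl⟩ := hy
      rw [hVb, hVF, Submodule.mkQ_apply, Submodule.Quotient.mk_eq_zero]
      exact Submodule.smul_mem_smul (Ideal.subset_span rfl) Submodule.mem_top
    | zero => exact map_zero Vb
    | add a b _ _ ha hb => rw [map_add, ha, hb, add_zero]
    | smul r y _ hy =>
      obtain ⟨r, rfl⟩ := Ideal.Quotient.mk_surjective r
      obtain ⟨y, rfl⟩ := Submodule.Quotient.mk_surjective _ y
      rw [← Submodule.mkQ_apply] at hy ⊢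
      rw [hVb] at hy
      rw [hsmul, hVb, LinearMap.map_smulₛₗ, map_smul, hy, smul_zero]
  -- exactness at each maximal ideal
  intro m hm x hx
  obtain ⟨x, rfl⟩ := Submodule.Quotient.mk_surjective _ x
  set m' := m.comap (Ideal.Quotient.mk I) with hm'
  haveI hmax' : m'.IsMaximal := Ideal.comap_isMaximal_of_surjective _ Ideal.Quotient.mk_surjective
  have hIm : I ≤ m' := fun a ha => by
    rw [hm', Ideal.mem_comap, Ideal.Quotient.eq_zero_iff_mem.2 ha]; exact zero_mem _
  obtain ⟨hle, hpm⟩ := p_mem_of_isMaximal hp0 m'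
  have hsur : Function.Surjective (WittVector.constantCoeff : (WittVector p k) →+* k) := fun a =>
    ⟨WittVector.teichmuller p a, WittVector.teichmuller_coeff_zero p a⟩
  set m₀ := m'.map (WittVector.constantCoeff : (WittVector p k) →+* k) with hm₀
  have hcomap : m₀.comap (WittVector.constantCoeff : (WittVector p k) →+* k) = m' := by
    rw [hm₀, Ideal.comap_map_of_surjective _ hsur]
    exact sup_eq_left.2 ((IV_eq_ker (p := p) (R := k)).ge.trans hle)
  haveI : m₀.IsMaximal := by
    refine (Ideal.map_eq_top_or_isMaximal_of_surjective _ hsur hmax').resolve_left fun h => hmax'.ne_top ?_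
    rw [← hcomap, show m₀ = ⊤ from h]
    exact (Ideal.comap_top (f := (WittVector.constantCoeff : (WittVector p k) →+* k)))
  let K := k ⧸ m₀
  haveI : CharP K p := (CharP.charP_iff_prime_eq_zero hp.out).2 (by
    rw [← map_natCast (Ideal.Quotient.mk m₀), CharP.cast_eq_zero, map_zero])
  haveI : IsReduced K := inferInstance
  haveI : PerfectRing K p := PerfectRing.ofSurjective K p fun a => by
    obtain ⟨a, rfl⟩ := Ideal.Quotient.mk_surjective a
    obtain ⟨b, rfl⟩ := (bijective_frobenius k p).2 a
    exact ⟨Ideal.Quotient.mk m₀ b, by rw [frobenius_def, frobenius_def, map_pow]⟩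
  let φ : (WittVector p k) →+* WittVector p K := WittVector.map (Ideal.Quotient.mk m₀)
  have hφ : Function.Surjective φ := WittVector.map_surjective _ Ideal.Quotient.mk_surjective
  have hker : RingHom.ker φ ⊔ I = m' := by
    refine le_antisymm (sup_le (fun a ha => ?_) hIm) fun a ha => ?_
    · rw [← hcomap, Ideal.mem_comap, ← Ideal.Quotient.eq_zero_iff_mem]
      exact (congrArg (fun w : WittVector p K => w.coeff 0) (RingHom.mem_ker.1 ha)).trans (WittVector.zero_coeff p K 0)
    · have h0 : φ a ∈ W4c1extbt610.IV p K := by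
        rw [mem_IV_iff]
        change Ideal.Quotient.mk m₀ (a.coeff 0) = 0
        exact Ideal.Quotient.eq_zero_iff_mem.2 (by rw [← hcomap] at ha; exact ha)
      obtain ⟨w, hw⟩ := exists_verschiebung_eq h0
      obtain ⟨u', hu'⟩ := (WittVector.frobenius_bijective (p := p) (R := K)).2 w
      obtain ⟨u, rfl⟩ := hφ u'
      rw [← hu', WittVector.verschiebung_frobenius] at hw
      rw [← sub_add_cancel a (u * (p : (WittVector p k)))]
      refine Submodule.add_mem_sup ?_ (Ideal.mul_mem_left _ _ (Ideal.subset_span rfl))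
      rw [RingHom.mem_ker, map_sub, map_mul, map_natCast, hw, sub_self]
  have hlift : ∀ y : M, P0.mkQ y ∈ m • (⊤ : Submodule ((WittVector p k) ⧸ I) (M ⧸ P0)) → y ∈ m' • (⊤ : Submodule (WittVector p k) M) := by
    intro y hy
    suffices h : ∀ z ∈ m • (⊤ : Submodule ((WittVector p k) ⧸ I) (M ⧸ P0)), ∃ y ∈ m' • (⊤ : Submodule (WittVector p k) M), P0.mkQ y = z by
      obtain ⟨y', hy', e⟩ := h _ hy
      have := (Submodule.Quotient.eq P0).1 e
      rw [← sub_sub_cancel y' y]
      exact sub_mem hy' (Submodule.smul_mono hIm le_rfl this)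
    intro z hz
    refine Submodule.smul_induction_on hz (fun a ha n _ => ?_) fun a b ha hb => ?_
    · obtain ⟨a, rfl⟩ := Ideal.Quotient.mk_surjective a
      obtain ⟨n, rfl⟩ := Submodule.Quotient.mk_surjective _ n
      exact ⟨a • n, Submodule.smul_mem_smul ha Submodule.mem_top, (hsmul a n).symm⟩
    · obtain ⟨y, hy, rfl⟩ := ha
      obtain ⟨y', hy', rfl⟩ := hb
      exact ⟨y + y', add_mem hy hy', map_add _ _ _⟩
  have hmem : V x ∈ (RingHom.ker φ ⊔ I) • (⊤ : Submodule (WittVector p k) M) := by
    rw [hker]; exact hlift _ hx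
  have h := exact_mod Q hJ hQ φ hφ V F hVF hFV (fun a ha => by
    change φ (WittVector.frobenius a) = 0
    rw [(WittVector.frobenius_isPoly p).map, show WittVector.map (Ideal.Quotient.mk m₀) a = 0 from ha, map_zero]) hmem
  rw [hker, Submodule.mem_sup] at h
  obtain ⟨y, hy, z, hz, rfl⟩ := h
  rw [Submodule.Quotient.mk_add]
  refine Submodule.add_mem_sup ?_ ?_
  · clear hx hmem
    induction hy using Submodule.span_induction with
    | mem y hy => obtain ⟨y, rfl⟩ := hy; exact Submodule.subset_span ⟨y, rfl⟩
    | zero => exact zero_mem _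
    | add a b _ _ ha hb => exact add_mem ha hb
    | smul r y _ hy => rw [← Submodule.mkQ_apply, ← hsmul]; exact Submodule.smul_mem _ _ hy
  · refine Submodule.smul_induction_on hz (fun a ha n _ => ?_) fun a b ha hb => ?_
    · rw [← Submodule.mkQ_apply, ← hsmul]
      exact Submodule.smul_mem_smul ha Submodule.mem_top
    · rw [Submodule.Quotient.mk_add]; exact add_mem ha hb

end Groth.Agent.DispLib.ExactFV
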