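import Groth.Agent.DispLib.Basic
import Mathlib.LinearAlgebra.ExteriorPower.Basis
import Mathlib.Algebra.Module.Projective

/-! # Exterior powers of 3n-displays with a normal decomposition of rank-one tangent part -/

universe u v w

noncomputable section

namespace Groth.Agent.DispLib.ExtPow

open WittVector W4c1extbt610

variable {p : ℕ} [hp : Fact p.Prime] {R : Type u} [CommRing R]
variable {P : Type v} [AddCommGroup P] [Module (WittVector p R) P]

section Twist

variable {A : Type u} [CommRing A] (τ : A →+* A) (N : Type w) [AddCommGroup N] [Module A N]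

/-- `N` with scalars through `τ`. -/
def Tw (_τ : A →+* A) (N : Type w) : Type w := N

instance : AddCommGroup (Tw τ N) := inferInstanceAs (AddCommGroup N)
instance : Module A (Tw τ N) := Module.compHom N τ

/-- The underlying element. -/
def Tw.val (x : Tw τ N) : N := x
/-- The element of the twist. -/
def Tw.mk (x : N) : Tw τ N := x

theorem Tw.val_smul (a : A) (x : Tw τ N) : Tw.val τ N (a • x) = τ a • Tw.val τ N x := rfl

end Twist

section Wedge

variable {A : Type u} [CommRing A] {M : Type v} [AddCommGroup M] [Module A M] {N : Type w} [AddCommGroup N] [Module A N] {r : ℕ}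

/-- The alternating map underlying `semiMap`. -/
def semiAlt {τ : A →+* A} (f : M →ₛₗ[τ] M) : M [⋀^Fin r]→ₗ[A] Tw τ (⋀[A]^r M) :=
    { toFun := fun v => Tw.mk τ _ (exteriorPower.ιMulti A r fun i => f (v i))
      map_update_add' := fun v i x y => by
        intros
        have h : ∀ z, (fun j => f (Function.update v i z j)) = Function.update (fun j => f (v j)) i (f z) :=
          fun z => funext fun j => Function.apply_update (fun _ => f) v i z j
        simp only [h, map_add, AlternatingMap.map_update_add]
        rfl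
      map_update_smul' := fun v i c x => by
        intros
        have h : ∀ z, (fun j => f (Function.update v i z j)) = Function.update (fun j => f (v j)) i (f z) :=
          fun z => funext fun j => Function.apply_update (fun _ => f) v i z j
        simp only [h, LinearMap.map_smulₛₗ, AlternatingMap.map_update_smul]
        rfl
      map_eq_zero_of_eq' := fun v i j hv hij => by
        rw [AlternatingMap.map_eq_zero_of_eq _ (fun k => f (v k)) (congrArg f hv) hij]
        rfl }

/-- Exterior powers of semilinear maps. -/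
def semiMap {τ : A →+* A} (f : M →ₛₗ[τ] M) : ⋀[A]^r M →ₛₗ[τ] ⋀[A]^r M where
  toFun z := Tw.val τ _ (exteriorPower.alternatingMapLinearEquiv (semiAlt f) z)
  map_add' x y := by rw [map_add]; rfl
  map_smul' c x := by rw [map_smul, Tw.val_smul]

theorem semiMap_apply {τ : A →+* A} (f : M →ₛₗ[τ] M) (v : Fin r → M) :
    semiMap f (exteriorPower.ιMulti A r v) = exteriorPower.ιMulti A r fun i => f (v i) := by
  exact congrArg (Tw.val τ _) (exteriorPower.alternatingMapLinearEquiv_apply_ιMulti (semiAlt f) v)

/-- A wedge with two entries multiples of the same vector vanishes. -/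
theorem two_slots (φ : M [⋀^Fin r]→ₗ[A] N) (v : Fin r → M) {i j : Fin r} (hij : i ≠ j) {t : M} {a b : A}
    (hi : v i = a • t) (hj : v j = b • t) : φ v = 0 := by
  have h1 : v = Function.update (Function.update v i (a • t)) j (b • t) := by
    rw [← hi, Function.update_eq_self, ← hj, Function.update_eq_self]
  rw [h1, φ.map_update_smul, Function.update_comm hij, φ.map_update_smul,
    φ.map_eq_zero_of_eq _ (show Function.update (Function.update v j t) i t i = Function.update (Function.update v j t) i t j by
      rw [Function.update_self, Function.update_of_ne hij.symm, Function.update_self]) hij, smul_zero, smul_zero]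

end Wedge

variable (D : Display3n p R P) {L T : Submodule (WittVector p R) P} (hLT : IsCompl L T)

/-- Projection onto `L`. -/
abbrev pL : P →ₗ[WittVector p R] P := L.subtype.comp (L.projectionOnto T hLT)
/-- Projection onto `T`. -/
abbrev pT : P →ₗ[WittVector p R] P := T.subtype.comp (T.projectionOnto L hLT.symm)
/-- The induced projection of the exterior power. -/
abbrev PiL (r : ℕ) : ⋀[WittVector p R]^r P →ₗ[WittVector p R] ⋀[WittVector p R]^r P := exteriorPower.map r (pL hLT)
/-- The complementary projection. -/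
abbrev PiT (r : ℕ) : ⋀[WittVector p R]^r P →ₗ[WittVector p R] ⋀[WittVector p R]^r P := LinearMap.id - PiL hLT r

theorem pL_of_mem {x : P} (hx : x ∈ L) : pL hLT x = x := by
  show ((L.projectionOnto T hLT (⟨x, hx⟩ : L)) : P) = x
  rw [Submodule.projectionOnto_apply_left]

theorem pL_of_memT {x : P} (hx : x ∈ T) : pL hLT x = 0 := by
  show ((L.projectionOnto T hLT (⟨x, hx⟩ : T)) : P) = 0
  rw [Submodule.projectionOnto_apply_right]; rfl

theorem PiL_L {r : ℕ} (v : Fin r → P) (hv : ∀ i, v i ∈ L) :
    PiL hLT r (exteriorPower.ιMulti (WittVector p R) r v) = exteriorPower.ιMulti (WittVector p R) r v := by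
  rw [exteriorPower.map_apply_ιMulti]
  exact congrArg _ (funext fun i => pL_of_mem hLT (hv i))

theorem PiL_T {r : ℕ} (v : Fin r → P) {i : Fin r} (hi : v i ∈ T) :
    PiL hLT r (exteriorPower.ιMulti (WittVector p R) r v) = 0 := by
  rw [exteriorPower.map_apply_ιMulti]
  exact AlternatingMap.map_coord_zero _ i (pL_of_memT hLT hi)

theorem PiL_idem {r : ℕ} (z : ⋀[WittVector p R]^r P) : PiL hLT r (PiL hLT r z) = PiL hLT r z := by
  rw [← LinearMap.comp_apply, ← exteriorPower.map_comp]
  congr 2
  exact LinearMap.ext fun x => pL_of_mem hLT (L.projectionOnto T hLT x).2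

variable (t₀ : P) (ht₀ : ∀ x ∈ T, ∃ c : WittVector p R, x = c • t₀) (ht₀T : t₀ ∈ T)

include ht₀ in
theorem exists_eq_smul {z : P} (hz : z ∈ IV p R • T) : ∃ a ∈ IV p R, z = a • t₀ := by
  refine Submodule.smul_induction_on hz (fun a ha x hx => ?_) fun a b ha hb => ?_
  · obtain ⟨c, rfl⟩ := ht₀ x hx
    exact ⟨a * c, Ideal.mul_mem_right _ _ ha, smul_smul _ _ _⟩
  · obtain ⟨a', ha', rfl⟩ := ha
    obtain ⟨b', hb', rfl⟩ := hb
    exact ⟨a' + b', add_mem ha' hb', (add_smul _ _ _).symm⟩

variable (hQ : D.Q = L ⊔ IV p R • T)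

include ht₀ ht₀T hQ in
theorem Q_eq (r : ℕ) :
    Submodule.span (WittVector p R)
        (Set.range fun q : Fin r → D.Q => exteriorPower.ιMulti (WittVector p R) r (fun i => (q i : P))) =
      LinearMap.range (PiL hLT r) ⊔ IV p R • LinearMap.range (PiT hLT r) := by
  classical
  set ι := exteriorPower.ιMulti (WittVector p R) r (M := P)
  have hLQ : L ≤ D.Q := hQ.ge.trans' le_sup_left
  refine le_antisymm (Submodule.span_le.2 ?_) (sup_le ?_ (Submodule.smul_le.2 ?_))
  · rintro _ ⟨q, rfl⟩
    have hdec : ∀ i, ∃ l ∈ L, ∃ z ∈ IV p R • T, l + z = (q i : P) := fun i => Submodule.mem_sup.1 (hQ ▸ (q i).2)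
    choose l hl z hz hlz using hdec
    show ι (fun i => (q i : P)) ∈ _
    rw [show (fun i => (q i : P)) = l + z from funext fun i => (hlz i).symm, ← AlternatingMap.coe_multilinearMap,
      MultilinearMap.map_add_univ]
    refine sum_mem fun s _ => ?_
    rw [AlternatingMap.coe_multilinearMap]
    by_cases hs : s = Finset.univ
    · subst hs
      rw [Finset.piecewise_univ, ← PiL_L hLT l hl]
      exact Submodule.mem_sup_left ⟨_, rfl⟩
    · obtain ⟨i, hi⟩ := not_forall.1 (fun h => hs (Finset.eq_univ_iff_forall.2 h))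
      obtain ⟨a, ha, hza⟩ := exists_eq_smul t₀ ht₀ (hz i)
      have hterm : ι (s.piecewise l z) = a • ι (Function.update (s.piecewise l z) i t₀) := by
        rw [← ι.map_update_smul, ← hza, ← Finset.piecewise_eq_of_notMem s l z hi, Function.update_eq_self]
      rw [hterm]
      refine Submodule.mem_sup_right (Submodule.smul_mem_smul ha ⟨ι (Function.update (s.piecewise l z) i t₀), ?_⟩)
      rw [LinearMap.sub_apply, LinearMap.id_apply, PiL_T hLT _ (i := i) (by rw [Function.update_self]; exact ht₀T), sub_zero]
  · rintro _ ⟨y, rfl⟩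
    have hy : y ∈ Submodule.span (WittVector p R) (Set.range ι) := by rw [exteriorPower.ιMulti_span]; trivial
    induction hy using Submodule.span_induction with
    | mem y hy =>
      obtain ⟨x, rfl⟩ := hy
      rw [exteriorPower.map_apply_ιMulti]
      exact Submodule.subset_span ⟨fun i => ⟨pL hLT (x i), hLQ (L.projectionOnto T hLT (x i)).2⟩, rfl⟩
    | zero => rw [map_zero]; exact zero_mem _
    | add a b _ _ ha hb => rw [map_add]; exact add_mem ha hb
    | smul c a _ ha => rw [map_smul]; exact Submodule.smul_mem _ c ha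
  · rintro a ha _ ⟨y, rfl⟩
    have hy : y ∈ Submodule.span (WittVector p R) (Set.range ι) := by rw [exteriorPower.ιMulti_span]; trivial
    induction hy using Submodule.span_induction with
    | zero => rw [map_zero, smul_zero]; exact zero_mem _
    | add u v _ _ hu hv => rw [map_add, smul_add]; exact add_mem hu hv
    | smul c u _ hu => rw [map_smul, smul_comm]; exact Submodule.smul_mem _ c hu
    | mem y hy =>
      obtain ⟨x, rfl⟩ := hy
      have hx : x = (fun i => pL hLT (x i)) + fun i => pT hLT (x i) :=
        funext fun i => (Submodule.projection_add_projection_eq_self hLT (x i)).symm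
      conv => rw [hx, ← AlternatingMap.coe_multilinearMap, MultilinearMap.map_add_univ, map_sum, Finset.smul_sum]
      refine sum_mem fun s _ => ?_
      rw [AlternatingMap.coe_multilinearMap]
      set w := s.piecewise (fun i => pL hLT (x i)) fun i => pT hLT (x i) with hw
      by_cases hs : ∀ i, w i ∈ L
      · rw [LinearMap.sub_apply, LinearMap.id_apply, PiL_L hLT w hs, sub_self, smul_zero]
        exact zero_mem _
      · obtain ⟨i, hi⟩ := not_forall.1 hs
        have hcases : ∀ j, w j ∈ L ∨ w j ∈ T := fun j => by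
          by_cases hj : j ∈ s
          · exact Or.inl (by rw [hw, Finset.piecewise_eq_of_mem _ _ _ hj]; exact (L.projectionOnto T hLT (x j)).2)
          · exact Or.inr (by rw [hw, Finset.piecewise_eq_of_notMem _ _ _ hj]; exact (T.projectionOnto L hLT.symm (x j)).2)
        have hiT : w i ∈ T := (hcases i).resolve_left hi
        rw [LinearMap.sub_apply, LinearMap.id_apply, PiL_T hLT w hiT, sub_zero]
        by_cases h2 : ∃ j, j ≠ i ∧ w j ∈ T
        · obtain ⟨j, hji, hjT⟩ := h2
          obtain ⟨ci, hci⟩ := ht₀ _ hiT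
          obtain ⟨cj, hcj⟩ := ht₀ _ hjT
          rw [two_slots ι w hji hcj hci, smul_zero]
          exact zero_mem _
        · push Not at h2
          have haw : a • w i ∈ D.Q := hQ ▸ Submodule.mem_sup_right (Submodule.smul_mem_smul ha hiT)
          have hq : ∀ j, Function.update w i (a • w i) j ∈ D.Q := fun j => by
            by_cases hj : j = i
            · subst hj; rw [Function.update_self]; exact haw
            · rw [Function.update_of_ne hj]; exact hLQ ((hcases j).resolve_right (h2 j hj))
          rw [show a • ι w = ι (Function.update w i (a • w i)) by rw [ι.map_update_smul, Function.update_eq_self]]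
          exact Submodule.subset_span ⟨fun j => ⟨_, hq j⟩, rfl⟩

include hLT hQ in
/-- The exterior power display exists and is unique. -/
theorem exists_isExtPow (r : ℕ) (hT : Nonempty (T ≃ₗ[WittVector p R] WittVector p R)) :
    ∃ E : Display3n p R (⋀[WittVector p R]^r P), IsExtPow D r E ∧
      ∀ E' : Display3n p R (⋀[WittVector p R]^r P), IsExtPow D r E' → E' = E := by
  classical
  haveI := D.finite
  haveI := D.projective
  obtain ⟨e0⟩ := hT
  let t₀ : P := (e0.symm 1 : T)
  have ht₀T : t₀ ∈ T := (e0.symm 1).2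
  have ht₀ : ∀ x ∈ T, ∃ c : WittVector p R, x = c • t₀ := fun x hx => ⟨e0 ⟨x, hx⟩, by
    rw [show (e0 ⟨x, hx⟩) • t₀ = ((e0 ⟨x, hx⟩ • e0.symm 1 : T) : P) from rfl, ← map_smul, smul_eq_mul, mul_one,
      LinearEquiv.symm_apply_apply]⟩
  have hLQ : L ≤ D.Q := hQ.ge.trans' le_sup_left
  have hQE := Q_eq D hLT t₀ ht₀ ht₀T hQ r
  set ι := exteriorPower.ιMulti (WittVector p R) r (M := P)
  set QE := Submodule.span (WittVector p R) (Set.range fun q : Fin r → D.Q => ι (fun i => (q i : P))) with hQEdef
  -- coordinates on the exterior power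
  obtain ⟨s₀, hs₀⟩ := Module.projective_def.1 (inferInstance : Module.Projective (WittVector p R) P)
  obtain ⟨n, π, hπ⟩ := Module.Finite.exists_fin' (WittVector p R) P
  obtain ⟨sP, hsP⟩ := Module.projective_lifting_property π LinearMap.id hπ
  haveI : Module.Projective (WittVector p R) (⋀[WittVector p R]^r P) :=
    Module.Projective.of_split (exteriorPower.map r sP) (exteriorPower.map r π) (by
      rw [← exteriorPower.map_comp, hsP, exteriorPower.map_id])
  haveI : Module.Finite (WittVector p R) (⋀[WittVector p R]^r P) := inferInstance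
  obtain ⟨N, πE, hπE⟩ := Module.Finite.exists_fin' (WittVector p R) (⋀[WittVector p R]^r P)
  obtain ⟨sE, hsE⟩ := Module.projective_lifting_property πE LinearMap.id hπE
  let e : Fin N → ⋀[WittVector p R]^r P := fun i => πE (Pi.single i 1)
  have hse : ∀ z, ∑ i, sE z i • e i = z := fun z => by
    conv_rhs => rw [← show πE (sE z) = z from LinearMap.congr_fun hsE z, pi_eq_sum_univ' (sE z)]
    simp [e]
  let f := normalMap D hLT hLQ
  let G := semiMap (r := r) f
  let PL := PiL hLT r
  let PT := PiT hLT r
  have hsumP : ∀ z, PL z + PT z = z := fun z => by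
    show PL z + (z - PL z) = z
    abel
  let FE : ⋀[WittVector p R]^r P →ₛₗ[(WittVector.frobenius : WittVector p R →+* WittVector p R)] ⋀[WittVector p R]^r P :=
    { toFun := fun z => (p : WittVector p R) • G (PL z) + G (PT z)
      map_add' := fun x y => by simp only [map_add, smul_add]; abel
      map_smul' := fun c x => by rw [map_smul PL, map_smul PT, LinearMap.map_smulₛₗ, LinearMap.map_smulₛₗ, smul_comm, smul_add] }
  have hFET : ∀ y, FE (PT y) = G (PT y) := fun y => by
    have h0 : PL (PT y) = 0 := by
      show PL (y - PL y) = 0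
      rw [map_sub, PiL_idem hLT, sub_self]
    have h1 : PT (PT y) = PT y := by
      show PT y - PL (PT y) = PT y
      rw [h0, sub_zero]
    show (p : WittVector p R) • G (PL (PT y)) + G (PT (PT y)) = _
    rw [h0, h1, map_zero, smul_zero, zero_add]
  let dv : ⋀[WittVector p R]^r P → ⋀[WittVector p R]^r P := fun z => ∑ i, (sE z i).shift 1 • FE (e i)
  have hshift : ∀ w : WittVector p R, (WittVector.verschiebung w).shift 1 = w := fun w =>
    WittVector.ext fun k => by rw [shift_coeff, add_comm, verschiebung_coeff_succ]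
  have hIV : ∀ z ∈ IV p R • (⊤ : Submodule (WittVector p R) (⋀[WittVector p R]^r P)), ∀ i, sE z i ∈ IV p R := by
    intro z hz i
    refine Submodule.smul_induction_on hz (fun a ha t _ => ?_) fun a b ha hb => by rw [map_add]; exact add_mem ha hb
    rw [map_smul]
    exact Ideal.mul_mem_right _ _ ha
  have hdadd : ∀ a b, a ∈ IV p R • (⊤ : Submodule (WittVector p R) (⋀[WittVector p R]^r P)) →
      b ∈ IV p R • (⊤ : Submodule (WittVector p R) (⋀[WittVector p R]^r P)) → dv (a + b) = dv a + dv b := by
    intro a b ha hb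
    simp only [dv]
    rw [← Finset.sum_add_distrib]
    refine Finset.sum_congr rfl fun i _ => ?_
    obtain ⟨u, hu⟩ := exists_verschiebung_eq (hIV a ha i)
    obtain ⟨v, hv⟩ := exists_verschiebung_eq (hIV b hb i)
    rw [map_add, Pi.add_apply, hu, hv, ← map_add, hshift, hshift, hshift, add_smul]
  have hdsmul : ∀ (c : WittVector p R) a, a ∈ IV p R • (⊤ : Submodule (WittVector p R) (⋀[WittVector p R]^r P)) →
      dv (c • a) = WittVector.frobenius c • dv a := by
    intro c a ha
    simp only [dv]
    rw [Finset.smul_sum]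
    refine Finset.sum_congr rfl fun i _ => ?_
    obtain ⟨u, hu⟩ := exists_verschiebung_eq (hIV a ha i)
    rw [map_smul, Pi.smul_apply, smul_eq_mul, hu, mul_comm, ← verschiebung_mul_frobenius, hshift, hshift, mul_comm, mul_smul]
  have hdV : ∀ (w : WittVector p R) z, dv (WittVector.verschiebung w • z) = w • FE z := by
    intro w z
    conv_rhs => rw [← hse z, map_sum, Finset.smul_sum]
    refine Finset.sum_congr rfl fun i _ => ?_
    rw [map_smul sE, Pi.smul_apply, smul_eq_mul, ← verschiebung_mul_frobenius, hshift, LinearMap.map_smulₛₗ, mul_smul]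
  have hPTQ : ∀ z ∈ QE, PT z ∈ IV p R • (⊤ : Submodule (WittVector p R) (⋀[WittVector p R]^r P)) := by
    intro z hz
    rw [hQE, Submodule.mem_sup] at hz
    obtain ⟨_, ⟨a, rfl⟩, b, hb, rfl⟩ := hz
    rw [map_add]
    refine add_mem ?_ ?_
    · show PL a - PL (PL a) ∈ _
      rw [PiL_idem hLT, sub_self]; exact zero_mem _
    · have h := Submodule.mem_map_of_mem (f := PT) hb
      rw [Submodule.map_smul''] at h
      exact Submodule.smul_mono le_rfl le_top h
  have hIQ : IV p R • (⊤ : Submodule (WittVector p R) (⋀[WittVector p R]^r P)) ≤ QE := Submodule.smul_le.2 fun a ha z _ => by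
    rw [hQE, ← hsumP z, smul_add]
    exact Submodule.add_mem_sup (Submodule.smul_mem _ a ⟨z, rfl⟩) (Submodule.smul_mem_smul ha ⟨z, rfl⟩)
  let VE : QE →ₛₗ[(WittVector.frobenius : WittVector p R →+* WittVector p R)] ⋀[WittVector p R]^r P :=
    { toFun := fun z => G (PL z) + dv (PT z)
      map_add' := fun a b => by
        rw [Submodule.coe_add, map_add, map_add, map_add, hdadd _ _ (hPTQ _ a.2) (hPTQ _ b.2)]
        abel
      map_smul' := fun c a => by
        rw [Submodule.coe_smul, map_smul PL, map_smul PT, LinearMap.map_smulₛₗ, hdsmul c _ (hPTQ _ a.2), smul_add] }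
  have hVV : ∀ (w : WittVector p R) z (h : WittVector.verschiebung w • z ∈ QE), VE ⟨_, h⟩ = w • FE z := by
    intro w z h
    show G (PL _) + dv (PT _) = _
    rw [map_smul PL, map_smul PT, LinearMap.map_smulₛₗ, hdV, WittVector.frobenius_verschiebung]
    have hPT : FE (PT z) = G (PT z) := hFET z
    rw [hPT]
    show (w * (p : WittVector p R)) • G (PL z) + w • G (PT z) = w • ((p : WittVector p R) • G (PL z) + G (PT z))
    rw [smul_add, mul_smul]
  have hmem : ∀ q : Fin r → D.Q, ι (fun i => (q i : P)) ∈ QE := fun q => Submodule.subset_span ⟨q, rfl⟩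
  have hwedge : ∀ (q : Fin r → D.Q) (h : ι (fun i => (q i : P)) ∈ QE), VE ⟨_, h⟩ = ι (fun i => D.Vinv (q i)) := by
    intro q h
    have hdec : ∀ i, ∃ l : D.Q, (l : P) ∈ L ∧ ∃ z : D.Q, (z : P) ∈ IV p R • T ∧ l + z = q i := fun i => by
      obtain ⟨l, hl, z, hz, hlz⟩ := Submodule.mem_sup.1 (hQ.le (q i).2)
      exact ⟨⟨l, hLQ hl⟩, hl, ⟨z, by rw [hQ]; exact Submodule.mem_sup_right hz⟩, hz, Subtype.ext hlz⟩
    choose l hl z hz hlz using hdec
    have hq : q = l + z := funext fun i => (hlz i).symm
    subst hq
    have hA : (⟨ι (fun i => ((l + z) i : P)), h⟩ : QE) =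
        ∑ s : Finset (Fin r), ⟨ι (fun i => (s.piecewise l z i : P)), hmem _⟩ := by
      apply Subtype.ext
      rw [AddSubmonoidClass.coe_finsetSum]
      show ι (fun i => ((l i : P) + (z i : P))) = _
      refine (ι.toMultilinearMap.map_add_univ (fun i => (l i : P)) fun i => (z i : P)).trans ?_
      refine Finset.sum_congr rfl fun s _ => congrArg _ (funext fun i => ?_)
      by_cases hi : i ∈ s
      · simp [Finset.piecewise_eq_of_mem _ _ _ hi]
      · simp [Finset.piecewise_eq_of_notMem _ _ _ hi]
    have hB : ι (fun i => D.Vinv ((l + z) i)) = ∑ s : Finset (Fin r), ι (fun i => D.Vinv (s.piecewise l z i)) := by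
      rw [show (fun i => D.Vinv ((l + z) i)) = (fun i => D.Vinv (l i)) + fun i => D.Vinv (z i) from
          funext fun i => map_add D.Vinv (l i) (z i),
        ← AlternatingMap.coe_multilinearMap, MultilinearMap.map_add_univ]
      refine Finset.sum_congr rfl fun s _ => congrArg _ (funext fun i => ?_)
      by_cases hi : i ∈ s
      · simp [Finset.piecewise_eq_of_mem _ _ _ hi]
      · simp [Finset.piecewise_eq_of_notMem _ _ _ hi]
    rw [hA, map_sum, hB]
    refine Finset.sum_congr rfl fun s _ => ?_
    suffices key : ∀ u : Fin r → D.Q, (∀ i, (u i : P) ∈ L ∨ (u i : P) ∈ IV p R • T) →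
        ∀ h : ι (fun i => (u i : P)) ∈ QE, VE ⟨_, h⟩ = ι (fun i => D.Vinv (u i)) from key _ (fun i => by
      by_cases hi : i ∈ s
      · exact Or.inl (by rw [Finset.piecewise_eq_of_mem _ _ _ hi]; exact hl i)
      · exact Or.inr (by rw [Finset.piecewise_eq_of_notMem _ _ _ hi]; exact hz i)) _
    intro u hu h
    by_cases hall : ∀ i, (u i : P) ∈ L
    · show G (PL _) + dv (PT _) = _
      have hPT0 : PT (ι fun i => (u i : P)) = 0 := by
        show ι _ - PL _ = 0
        rw [PiL_L hLT _ hall, sub_self]
      rw [hPT0, PiL_L hLT _ hall, semiMap_apply]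
      have hd0 : dv 0 = 0 := by
        simp only [dv, map_zero, Pi.zero_apply]
        refine Finset.sum_eq_zero fun i _ => ?_
        rw [show (0 : WittVector p R).shift 1 = 0 from WittVector.ext fun k => by rw [shift_coeff, zero_coeff, zero_coeff], zero_smul]
      rw [hd0, add_zero]
      exact congrArg ι (funext fun i => (normalMap_L D hLT hLQ ⟨_, hall i⟩))
    · obtain ⟨i, hi⟩ := not_forall.1 hall
      obtain ⟨a, ha, hai⟩ := exists_eq_smul t₀ ht₀ ((hu i).resolve_left hi)
      obtain ⟨w, rfl⟩ := exists_verschiebung_eq ha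
      have hVi : D.Vinv (u i) = w • D.F t₀ := by
        refine (congrArg D.Vinv (Subtype.ext (a2 := ⟨WittVector.verschiebung w • t₀,
          D.IV_smul_le (Submodule.smul_mem_smul (verschiebung_mem_IV p R w) Submodule.mem_top)⟩) hai)).trans ?_
        exact D.Vinv_verschiebung_smul w t₀
      by_cases h2 : ∃ j, j ≠ i ∧ (u j : P) ∉ L
      · obtain ⟨j, hji, hj⟩ := h2
        obtain ⟨b, hb, hbj⟩ := exists_eq_smul t₀ ht₀ ((hu j).resolve_left hj)
        obtain ⟨w', rfl⟩ := exists_verschiebung_eq hb
        have hVj : D.Vinv (u j) = w' • D.F t₀ := by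
          refine (congrArg D.Vinv (Subtype.ext (a2 := ⟨WittVector.verschiebung w' • t₀,
            D.IV_smul_le (Submodule.smul_mem_smul (verschiebung_mem_IV p R w') Submodule.mem_top)⟩) hbj)).trans ?_
          exact D.Vinv_verschiebung_smul w' t₀
        rw [show (⟨_, h⟩ : QE) = 0 from Subtype.ext (two_slots ι (fun k => (u k : P)) hji hbj hai), map_zero,
          two_slots ι (fun k => D.Vinv (u k)) hji hVj hVi]
      · push Not at h2
        set v := Function.update (fun j => (u j : P)) i t₀ with hv
        have hterm : ι (fun j => (u j : P)) = WittVector.verschiebung w • ι v := by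
          rw [hv, ← ι.map_update_smul, ← hai]
          exact congrArg ι (Function.update_eq_self i fun j => (u j : P)).symm
        have h' : WittVector.verschiebung w • ι v ∈ QE := hterm ▸ h
        rw [show (⟨_, h⟩ : QE) = ⟨_, h'⟩ from Subtype.ext hterm, hVV]
        show w • ((p : WittVector p R) • G (PL (ι v)) + G (ι v - PL (ι v))) = _
        rw [PiL_T hLT v (i := i) (by rw [hv, Function.update_self]; exact ht₀T), sub_zero, map_zero, smul_zero, zero_add,
          semiMap_apply, ← Function.update_eq_self i (fun j => D.Vinv (u j)), hVi, ι.map_update_smul]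
        congr 2
        funext j
        by_cases hj : j = i
        · subst hj
          rw [hv, Function.update_self, Function.update_self]
          exact normalMap_T D hLT hLQ ⟨t₀, ht₀T⟩
        · rw [hv, Function.update_of_ne hj, Function.update_of_ne hj]
          exact normalMap_L D hLT hLQ ⟨_, h2 j hj⟩
  let E : Display3n p R (⋀[WittVector p R]^r P) :=
    { Q := QE
      F := FE
      Vinv := VE
      finite := inferInstance
      projective := inferInstance
      IV_smul_le := hIQ
      exists_normal := by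
        refine ⟨LinearMap.range PL, LinearMap.range PT, ⟨?_, ?_⟩, hQE⟩
        · rw [Submodule.disjoint_def]
          rintro _ ⟨x, rfl⟩ ⟨y, hy⟩
          have h1 : PL (PT y) = 0 := by
            show PL (y - PL y) = 0
            rw [map_sub, PiL_idem hLT, sub_self]
          rw [hy, PiL_idem hLT] at h1
          exact h1
        · rw [codisjoint_iff, eq_top_iff]
          exact fun z _ => hsumP z ▸ Submodule.add_mem_sup ⟨z, rfl⟩ ⟨z, rfl⟩
      span_range_Vinv := by
        rw [eq_top_iff, ← exteriorPower.ιMulti_span_of_span (WittVector p R) r P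
          (span_normalMap D hLT hLQ hQ), Submodule.span_le]
        rintro _ ⟨x, hx, rfl⟩
        choose y hy using fun i => hx ⟨i, rfl⟩
        have hx' : ι x = G (ι y) := by rw [semiMap_apply]; exact congrArg ι (funext fun i => (hy i).symm)
        show ι x ∈ _
        rw [hx', ← hsumP (ι y), map_add]
        have h1 : PL (ι y) ∈ QE := hQE ▸ Submodule.mem_sup_left ⟨_, rfl⟩
        refine add_mem (Submodule.subset_span ⟨⟨_, h1⟩, ?_⟩) (Submodule.subset_span ⟨⟨WittVector.verschiebung 1 • PT (ι y),
          hIQ (Submodule.smul_mem_smul (verschiebung_mem_IV p R 1) Submodule.mem_top)⟩, ?_⟩)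
        · show G (PL (PL (ι y))) + dv (PT (PL (ι y))) = _
          have h0 : PT (PL (ι y)) = (0 : WittVector p R) • PT (PL (ι y)) := by
            show PL (ι y) - PL (PL (ι y)) = _
            rw [PiL_idem hLT, sub_self, zero_smul]
          rw [h0, hdsmul _ _ (hPTQ _ h1), map_zero, zero_smul, add_zero, PiL_idem hLT]
        · rw [hVV, one_smul, hFET]
      Vinv_verschiebung_smul := fun w z => hVV w z _ }
  refine ⟨E, ⟨rfl, hwedge⟩, fun E' hE' => ?_⟩
  have hEQ : E'.Q = E.Q := hE'.1
  have hVeq : ∀ z ∈ QE, ∀ (h₁ : z ∈ E'.Q) (h₂ : z ∈ QE), E'.Vinv ⟨z, h₁⟩ = VE ⟨z, h₂⟩ := by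
    intro z hz
    induction hz using Submodule.span_induction with
    | mem z hz =>
      obtain ⟨q, rfl⟩ := hz
      intro h₁ h₂
      exact (hE'.2 q h₁).trans (hwedge q h₂).symm
    | zero => exact fun h₁ h₂ => (map_zero E'.Vinv).trans (map_zero VE).symm
    | add a b ha hb iha ihb =>
      intro h₁ h₂
      have ha' : a ∈ E'.Q := by rw [hEQ]; exact ha
      have hb' : b ∈ E'.Q := by rw [hEQ]; exact hb
      rw [show (⟨a + b, h₁⟩ : E'.Q) = ⟨a, ha'⟩ + ⟨b, hb'⟩ from rfl, show (⟨a + b, h₂⟩ : QE) = ⟨a, ha⟩ + ⟨b, hb⟩ from rfl,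
        map_add, map_add, iha ha' ha, ihb hb' hb]
    | smul c a ha iha =>
      intro h₁ h₂
      have ha' : a ∈ E'.Q := by rw [hEQ]; exact ha
      rw [show (⟨c • a, h₁⟩ : E'.Q) = c • ⟨a, ha'⟩ from rfl, show (⟨c • a, h₂⟩ : QE) = c • ⟨a, ha⟩ from rfl,
        LinearMap.map_smulₛₗ, LinearMap.map_smulₛₗ, iha ha' ha]
  have hFeq : E'.F = E.F := LinearMap.ext fun z => by
    rw [DispLib.F_eq_Vinv E', DispLib.F_eq_Vinv E]
    exact hVeq _ (E.IV_smul_le (Submodule.smul_mem_smul (verschiebung_mem_IV p R 1) Submodule.mem_top)) _ _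
  rcases E' with ⟨Q', F', V'⟩
  obtain rfl : Q' = QE := hEQ
  obtain rfl : F' = FE := hFeq
  obtain rfl : V' = VE := LinearMap.ext fun z => hVeq z.1 z.2 z.2 z.2
  rfl

end Groth.Agent.DispLib.ExtPow
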