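import Groth.Agent.Adic7.Basic

/-! # Lifting decompositions along an adic ideal -/

universe u v

namespace Groth.Agent.DispLib.LiftDecomp

variable {A : Type u} [CommRing A] (I : Ideal A) {M : Type v} [AddCommGroup M] [Module A M]

theorem map_mem_pow (f : M →ₗ[A] M) {n : ℕ} {x : M} (hx : x ∈ I ^ n • (⊤ : Submodule A M)) :
    f x ∈ I ^ n • (⊤ : Submodule A M) := by
  have h := Submodule.mem_map_of_mem (f := f) hx
  rw [Submodule.map_smul''] at h
  exact Submodule.smul_mono le_rfl le_top h

theorem map_mem_pow_mul (f : M →ₗ[A] M) {i n : ℕ} (hf : ∀ x, f x ∈ I ^ i • (⊤ : Submodule A M)) {x : M}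
    (hx : x ∈ I ^ n • (⊤ : Submodule A M)) : f x ∈ I ^ (n + i) • (⊤ : Submodule A M) := by
  refine Submodule.smul_induction_on hx (fun r hr y _ => ?_) fun a b ha hb => ?_
  · rw [map_smul, pow_add, mul_comm, mul_comm (I ^ i), Submodule.mul_smul]
    exact Submodule.smul_mem_smul hr (hf y)
  · rw [map_add]; exact add_mem ha hb

/-- An endomorphism which is idempotent modulo `I` is congruent to an idempotent one. -/
theorem exists_idempotent [IsAdicComplete I M] (e₀ : M →ₗ[A] M)
    (h₀ : ∀ x, e₀ (e₀ x) - e₀ x ∈ I • (⊤ : Submodule A M)) :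
    ∃ E : M →ₗ[A] M, (∀ x, E (E x) = E x) ∧ ∀ x, E x - e₀ x ∈ I • (⊤ : Submodule A M) := by
  let step : Module.End A M → Module.End A M := fun e => e * e + e * e + e * e - (e * e * e + e * e * e)
  let e : ℕ → Module.End A M := fun n => step^[n] e₀
  have hsucc : ∀ n, e (n + 1) = step (e n) := fun n => Function.iterate_succ_apply' step n e₀
  let a : ℕ → Module.End A M := fun n => e n * e n - e n
  have ha : ∀ n x, a n x ∈ I ^ (n + 1) • (⊤ : Submodule A M) := by
    intro n
    induction n with
    | zero => intro x; rw [zero_add, pow_one]; exact h₀ x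
    | succ n ih =>
      intro x
      have hid : a (n + 1) = (a n + a n + a n + a n - 1 - 1 - 1) * (a n * a n) := by
        simp only [a, hsucc, step]
        noncomm_ring
      rw [hid, Module.End.mul_apply, Module.End.mul_apply]
      refine map_mem_pow I _ ?_
      exact Submodule.smul_mono (Ideal.pow_le_pow_right (by omega)) le_rfl (map_mem_pow_mul I (a n) ih (ih x))
  have hdiff : ∀ n x, e (n + 1) x - e n x ∈ I ^ (n + 1) • (⊤ : Submodule A M) := by
    intro n x
    have hid : e (n + 1) - e n = a n * (1 - (e n + e n)) := by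
      simp only [a, hsucc, step]
      noncomm_ring
    rw [← LinearMap.sub_apply, hid]
    exact ha n _
  have hcauchy : ∀ x {m n : ℕ}, m ≤ n → e n x - e m x ∈ I ^ m • (⊤ : Submodule A M) := by
    intro x m n hmn
    induction n, hmn using Nat.le_induction with
    | base => rw [sub_self]; exact zero_mem _
    | succ n hn ih =>
      rw [← sub_add_sub_cancel (e (n + 1) x) (e n x)]
      exact add_mem (Submodule.smul_mono (Ideal.pow_le_pow_right (hn.trans (Nat.le_succ n))) le_rfl (hdiff n x)) ih
  choose L hL using fun x => IsPrecomplete.prec (inferInstance : IsPrecomplete I M) (f := fun n => e n x)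
    (fun {m n} hmn => SModEq.sub_mem.2 (by rw [← neg_sub]; exact neg_mem (hcauchy x hmn)))
  have hL' : ∀ x n, e n x - L x ∈ I ^ n • (⊤ : Submodule A M) := fun x n => SModEq.sub_mem.1 (hL x n)
  have huniq : ∀ y z : M, (∀ n, y - z ∈ I ^ n • (⊤ : Submodule A M)) → y = z := fun y z h =>
    sub_eq_zero.1 (IsHausdorff.haus (inferInstance : IsHausdorff I M) _ fun n => SModEq.zero.2 (h n))
  let E : M →ₗ[A] M :=
    { toFun := L
      map_add' := fun x y => huniq _ _ fun n => by
        rw [show L (x + y) - (L x + L y) = (e n x - L x) + (e n y - L y) - (e n (x + y) - L (x + y)) by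
          rw [map_add]; abel]
        exact sub_mem (add_mem (hL' x n) (hL' y n)) (hL' _ n)
      map_smul' := fun c x => huniq _ _ fun n => by
        rw [RingHom.id_apply, show L (c • x) - c • L x = c • (e n x - L x) - (e n (c • x) - L (c • x)) by
          rw [map_smul, smul_sub]; abel]
        exact sub_mem (Submodule.smul_mem _ c (hL' x n)) (hL' _ n) }
  refine ⟨E, fun x => huniq _ _ fun n => ?_, fun x => ?_⟩
  · have h1 : e n (E x) - E (E x) ∈ I ^ n • (⊤ : Submodule A M) := hL' _ n
    have h2 : e n (e n x) - e n (E x) ∈ I ^ n • (⊤ : Submodule A M) := by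
      rw [← map_sub]; exact map_mem_pow I _ (hL' x n)
    have h3 : e n (e n x) - e n x ∈ I ^ n • (⊤ : Submodule A M) :=
      Submodule.smul_mono (Ideal.pow_le_pow_right (Nat.le_succ n)) le_rfl (ha n x)
    rw [show E (E x) - E x = (e n (e n x) - e n x) - (e n (e n x) - e n (E x)) - (e n (E x) - E (E x)) + (e n x - E x) by abel]
    exact add_mem (sub_mem (sub_mem h3 h2) h1) (hL' x n)
  · have h0 := hdiff 0 x
    have h1 := hL' x 1
    rw [zero_add, pow_one] at h0
    rw [pow_one] at h1
    rw [show E x - e₀ x = (e (0 + 1) x - e 0 x) - (e 1 x - L x) by change L x - e 0 x = _; rw [zero_add]; abel]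
    exact sub_mem h0 h1

/-- A decomposition modulo `I` lifts to a direct sum decomposition. -/
theorem exists_isCompl [IsAdicComplete I A] [Module.Finite A M] [Module.Projective A M] (Q C : Submodule A M)
    (hsup : Q ⊔ C = ⊤) (hinf : Q ⊓ C = I • (⊤ : Submodule A M)) :
    ∃ L T : Submodule A M, IsCompl L T ∧ Q = L ⊔ I • T := by
  haveI := Adic7.isAdicComplete_of_projective I M
  have hsur : Function.Surjective (Q.mkQ ∘ₗ C.subtype) := by
    intro z
    obtain ⟨x, rfl⟩ := Submodule.Quotient.mk_surjective _ z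
    obtain ⟨q, hq, c, hc, rfl⟩ := Submodule.mem_sup.1 (hsup.ge (Submodule.mem_top : x ∈ ⊤))
    exact ⟨⟨c, hc⟩, (Submodule.Quotient.eq Q).2 (by rw [C.subtype_apply, sub_add_cancel_right]; exact neg_mem hq)⟩
  obtain ⟨g, hg⟩ := Module.projective_lifting_property (Q.mkQ ∘ₗ C.subtype) Q.mkQ hsur
  let e₀ : M →ₗ[A] M := C.subtype ∘ₗ g
  have hgQ : ∀ x, e₀ x - x ∈ Q := fun x => (Submodule.Quotient.eq Q).1 (LinearMap.congr_fun hg x)
  have hIQ : I • (⊤ : Submodule A M) ≤ Q := hinf ▸ inf_le_left
  have hC : ∀ c ∈ C, e₀ c - c ∈ I • (⊤ : Submodule A M) := fun c hc =>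
    hinf ▸ ⟨hgQ c, sub_mem (g c).2 hc⟩
  obtain ⟨E, hE, hEe⟩ := exists_idempotent I e₀ fun x => hC _ (g x).2
  refine ⟨LinearMap.ker E, LinearMap.range E, ⟨?_, ?_⟩, le_antisymm (fun q hq => ?_) (sup_le (fun x hx => ?_) ?_)⟩
  · rw [Submodule.disjoint_def]
    rintro x hx ⟨y, rfl⟩
    rw [← hE y]
    exact hx
  · rw [codisjoint_iff, eq_top_iff]
    rintro x -
    rw [← sub_add_cancel x (E x)]
    exact Submodule.add_mem_sup (by rw [LinearMap.mem_ker, map_sub, hE, sub_self]) ⟨x, rfl⟩
  · have h1 : e₀ q ∈ I • (⊤ : Submodule A M) := by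
      refine hinf ▸ ⟨?_, (g q).2⟩
      rw [← sub_add_cancel (e₀ q) q]
      exact add_mem (hgQ q) hq
    have h2 : E q ∈ I • (⊤ : Submodule A M) := by
      rw [← sub_add_cancel (E q) (e₀ q)]
      exact add_mem (hEe q) h1
    have h3 := Submodule.mem_map_of_mem (f := E) h2
    rw [Submodule.map_smul'', Submodule.map_top, hE] at h3
    rw [← sub_add_cancel q (E q)]
    exact Submodule.add_mem_sup (by rw [LinearMap.mem_ker, map_sub, hE, sub_self]) h3
  · have h1 : e₀ x ∈ Q := hIQ (by
      have := hEe x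
      rw [LinearMap.mem_ker.1 hx, zero_sub] at this
      simpa using neg_mem this)
    rw [← sub_sub_cancel (e₀ x) x]
    exact sub_mem h1 (hgQ x)
  · exact (Submodule.smul_mono le_rfl le_top).trans hIQ

end Groth.Agent.DispLib.LiftDecomp
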