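import Groth.Agent.DispLib.FrobIter
import Mathlib.RingTheory.WittVector.Domain
import Mathlib.RingTheory.WittVector.InitTail
import Mathlib.RingTheory.WittVector.Teichmuller
import Mathlib.Algebra.TrivSqZeroExt.Basic

/-! # Witt vectors with coefficients in a square-zero ideal killed by `p` -/

universe u

namespace Groth.Agent.DispLib.SqZero

open WittVector

variable {p : ℕ} [hp : Fact p.Prime] {T : Type u} [CommRing T]

theorem teichmuller_add (a b : T) (ha : a * a = 0) (hb : b * b = 0) (hab : a * b = 0) :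
    teichmuller p a + teichmuller p b = teichmuller p (a + b) := by
  let toQ : (TrivSqZeroExt ℤ (ℤ × ℤ)) →+* (TrivSqZeroExt ℚ (ℚ × ℚ)) :=
    { toFun := fun z => TrivSqZeroExt.inl (z.fst : ℚ) + TrivSqZeroExt.inr ((z.snd.1 : ℚ), (z.snd.2 : ℚ))
      map_one' := by ext <;> simp
      map_zero' := by ext <;> simp
      map_add' := fun x y => by ext <;> simp
      map_mul' := fun x y => by ext <;> simp [mul_comm] }
  have hinj : Function.Injective toQ := fun x y h => by
    have h1 := congrArg TrivSqZeroExt.fst h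
    have h2 := congrArg TrivSqZeroExt.snd h
    simp [toQ, Prod.ext_iff] at h1 h2
    ext
    exacts [h1, h2.1, h2.2]
  let toT : (TrivSqZeroExt ℤ (ℤ × ℤ)) →+* T :=
    { toFun := fun z => (z.fst : T) + (z.snd.1 : T) * a + (z.snd.2 : T) * b
      map_one' := by simp
      map_zero' := by simp
      map_add' := fun x y => by simp; ring
      map_mul' := fun x y => by
        simp
        linear_combination (-((x.snd.1 : T) * y.snd.1)) * ha - ((x.snd.2 : T) * y.snd.2) * hb
          - ((x.snd.1 : T) * y.snd.2 + (x.snd.2 : T) * y.snd.1) * hab }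
  let A : (TrivSqZeroExt ℤ (ℤ × ℤ)) := TrivSqZeroExt.inr (1, 0)
  let B : (TrivSqZeroExt ℤ (ℤ × ℤ)) := TrivSqZeroExt.inr (0, 1)
  have key : teichmuller p A + teichmuller p B = teichmuller p (A + B) := by
    refine WittVector.map_injective toQ hinj ?_
    rw [map_add, map_teichmuller, map_teichmuller, map_teichmuller]
    haveI : Invertible (p : (TrivSqZeroExt ℚ (ℚ × ℚ))) := by
      haveI : Invertible (p : ℚ) := invertibleOfNonzero (Nat.cast_ne_zero.2 hp.out.ne_zero)
      exact (Invertible.map (algebraMap ℚ (TrivSqZeroExt ℚ (ℚ × ℚ))) (p : ℚ)).copy _ (map_natCast _ p).symm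
    refine (WittVector.ghostMap.bijective_of_invertible p (TrivSqZeroExt ℚ (ℚ × ℚ))).1 (funext fun n => ?_)
    simp only [WittVector.ghostMap_apply, map_add, WittVector.ghostComponent_teichmuller]
    rcases n with _ | n
    · simp
    · obtain ⟨k, hk⟩ : ∃ k, p ^ (n + 1) = k + 2 :=
        ⟨p ^ (n + 1) - 2, (Nat.sub_add_cancel (le_trans hp.out.two_le (Nat.le_self_pow (Nat.succ_ne_zero n) p))).symm⟩
      have hz : ∀ w : (TrivSqZeroExt ℚ (ℚ × ℚ)), w.fst = 0 → w ^ p ^ (n + 1) = 0 := fun w hw => by
        rw [hk, pow_add, show w ^ 2 = 0 by rw [pow_two]; ext <;> simp [hw], mul_zero]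
      rw [hz, hz, hz, add_zero] <;> simp [toQ, A, B]
  have h := congrArg (WittVector.map toT) key
  rw [map_add, map_teichmuller, map_teichmuller, map_teichmuller, map_add toT,
    show toT A = a by simp [toT, A], show toT B = b by simp [toT, B]] at h
  exact h

variable (b : Ideal T)

theorem eq_teichmuller_add (x : WittVector p T) :
    teichmuller p (x.coeff 0) + verschiebung (x.shift 1) = x := by
  have h : ∀ k, x.coeff k = (teichmuller p (x.coeff 0) + verschiebung (x.shift 1)).coeff k := by
    intro k
    rw [WittVector.coeff_add_of_disjoint]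
    · rcases k with _ | k
      · simp
      · rw [teichmuller_coeff_pos p _ (k + 1) (Nat.succ_pos k), verschiebung_coeff_succ, shift_coeff, add_comm 1 k, zero_add]
    · intro j
      rcases j with _ | j
      · exact Or.inr (by simp)
      · exact Or.inl (teichmuller_coeff_pos p _ (j + 1) (Nat.succ_pos j))
  exact (WittVector.ext h).symm

theorem shift_eq (c : T) (w : WittVector p T) : (teichmuller p c + verschiebung w).shift 1 = w := by
  refine WittVector.ext fun k => ?_
  rw [shift_coeff, WittVector.coeff_add_of_disjoint]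
  · rw [add_comm 1 k, teichmuller_coeff_pos p _ (k + 1) (Nat.succ_pos k), verschiebung_coeff_succ, zero_add]
  · intro j
    rcases j with _ | j
    · exact Or.inr (by simp)
    · exact Or.inl (teichmuller_coeff_pos p _ (j + 1) (Nat.succ_pos j))

variable {b} (hb2 : ∀ x ∈ b, ∀ y ∈ b, x * y = 0) (hbp : ∀ x ∈ b, (p : T) * x = 0)
include hb2 hbp

theorem frobenius_eq_zero {x : WittVector p T} (hx : ∀ n, x.coeff n ∈ b) : frobenius x = 0 :=
  frobenius_eq_zero_of_coeff_mem b hbp (fun a ha => by
    obtain ⟨k, hk⟩ : ∃ k, p = k + 2 := ⟨p - 2, by have := hp.out.two_le; omega⟩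
    rw [hk, pow_add, pow_two, hb2 a ha a ha, mul_zero]) x hx

theorem verschiebung_mul_eq_zero {x : WittVector p T} (hx : ∀ n, x.coeff n ∈ b) (w : WittVector p T) :
    verschiebung w * x = 0 := by
  rw [← verschiebung_mul_frobenius, frobenius_eq_zero hb2 hbp hx, mul_zero, map_zero]

theorem p_mul_eq_zero {x : WittVector p T} (hx : ∀ n, x.coeff n ∈ b) : (p : WittVector p T) * x = 0 := by
  rw [mul_comm, ← frobenius_verschiebung]
  refine frobenius_eq_zero hb2 hbp fun n => ?_
  rcases n with _ | n
  · rw [verschiebung_coeff_zero]; exact zero_mem b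
  · rw [verschiebung_coeff_succ]; exact hx n

theorem shift_mul {x : WittVector p T} (hx : ∀ n, x.coeff n ∈ b) (c : WittVector p T) :
    (c * x).shift 1 = frobenius c * x.shift 1 := by
  have h0 : ∀ n, (teichmuller p (x.coeff 0)).coeff n ∈ b := fun n => by
    rcases n with _ | n
    · rw [teichmuller_coeff_zero]; exact hx 0
    · rw [teichmuller_coeff_pos p _ (n + 1) (Nat.succ_pos n)]; exact zero_mem b
  have h : c * x = teichmuller p (c.coeff 0 * x.coeff 0) + verschiebung (frobenius c * x.shift 1) := by
    conv_lhs => rw [← eq_teichmuller_add x]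
    have h2 : c * verschiebung (x.shift 1) = verschiebung (frobenius c * x.shift 1) := by
      rw [mul_comm, ← verschiebung_mul_frobenius, mul_comm]
    rw [mul_add, h2]
    congr 1
    conv_lhs => rw [← eq_teichmuller_add c]
    rw [add_mul, verschiebung_mul_eq_zero hb2 hbp h0, add_zero, map_mul (teichmuller p)]
  rw [h, shift_eq]

theorem shift_add {x y : WittVector p T} (hx : ∀ n, x.coeff n ∈ b) (hy : ∀ n, y.coeff n ∈ b) :
    (x + y).shift 1 = x.shift 1 + y.shift 1 := by
  have h : x + y = teichmuller p (x.coeff 0 + y.coeff 0) + verschiebung (x.shift 1 + y.shift 1) := by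
    rw [← teichmuller_add _ _ (hb2 _ (hx 0) _ (hx 0)) (hb2 _ (hy 0) _ (hy 0)) (hb2 _ (hx 0) _ (hy 0)), map_add]
    conv_lhs => rw [← eq_teichmuller_add x, ← eq_teichmuller_add y]
    abel
  rw [h, shift_eq]

end Groth.Agent.DispLib.SqZero
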