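import Groth.Agent.DispLib.Basic
import Groth.Agent.DispLib.SquareZero

/-! # Rigidity of homomorphisms of displays -/

universe u v w

noncomputable section

namespace Groth.Agent.DispLib.Rigid

open WittVector W4c1extbt610

variable {p : ℕ} [hp : Fact p.Prime] {S : Type u} [CommRing S]

/-- Witt vectors with all coefficients in `c`. -/
def K (p : ℕ) [Fact p.Prime] (c : Ideal S) : Ideal (WittVector p S) :=
  RingHom.ker (WittVector.map (Ideal.Quotient.mk c) : WittVector p S →+* WittVector p (S ⧸ c))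

theorem mem_K {c : Ideal S} {x : WittVector p S} : x ∈ K p c ↔ ∀ n, x.coeff n ∈ c := by
  rw [K, RingHom.mem_ker]
  constructor
  · intro h n
    rw [← Ideal.Quotient.eq_zero_iff_mem, ← WittVector.map_coeff, h, WittVector.zero_coeff]
  · intro h
    ext n
    rw [WittVector.map_coeff, Ideal.Quotient.eq_zero_iff_mem.2 (h n), WittVector.zero_coeff]

section Step

variable {c c' : Ideal S} (h2 : ∀ x ∈ c, ∀ y ∈ c, x * y ∈ c') (hpc : ∀ x ∈ c, (p : S) * x ∈ c')
include h2 hpc

theorem map_sqZero : (∀ x ∈ c.map (Ideal.Quotient.mk c'), ∀ y ∈ c.map (Ideal.Quotient.mk c'), x * y = 0) ∧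
    ∀ x ∈ c.map (Ideal.Quotient.mk c'), (p : S ⧸ c') * x = 0 := by
  constructor
  · intro x hx y hy
    obtain ⟨a, ha, rfl⟩ := (Ideal.mem_map_iff_of_surjective _ Ideal.Quotient.mk_surjective).1 hx
    obtain ⟨b, hb, rfl⟩ := (Ideal.mem_map_iff_of_surjective _ Ideal.Quotient.mk_surjective).1 hy
    rw [← map_mul, Ideal.Quotient.eq_zero_iff_mem]
    exact h2 a ha b hb
  · intro x hx
    obtain ⟨a, ha, rfl⟩ := (Ideal.mem_map_iff_of_surjective _ Ideal.Quotient.mk_surjective).1 hx
    rw [← map_natCast (Ideal.Quotient.mk c'), ← map_mul, Ideal.Quotient.eq_zero_iff_mem]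
    exact hpc a ha

theorem coeff_map_mem {x : WittVector p S} (hx : x ∈ K p c) (n : ℕ) :
    (WittVector.map (Ideal.Quotient.mk c') x).coeff n ∈ c.map (Ideal.Quotient.mk c') := by
  rw [WittVector.map_coeff]
  exact Ideal.mem_map_of_mem _ (mem_K.1 hx n)

theorem frobenius_mem {x : WittVector p S} (hx : x ∈ K p c) : WittVector.frobenius x ∈ K p c' := by
  obtain ⟨e1, e2⟩ := map_sqZero h2 hpc
  rw [K, RingHom.mem_ker, ← DispLib.frobenius_map]
  exact SqZero.frobenius_eq_zero e1 e2 (coeff_map_mem h2 hpc hx)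

theorem mul_mem {a x : WittVector p S} (ha : a ∈ IV p S ⊔ Ideal.span {(p : WittVector p S)}) (hx : x ∈ K p c) :
    a * x ∈ K p c' := by
  obtain ⟨e1, e2⟩ := map_sqZero h2 hpc
  obtain ⟨u, hu, v, hv, rfl⟩ := Submodule.mem_sup.1 ha
  obtain ⟨u, rfl⟩ := exists_verschiebung_eq hu
  obtain ⟨v, rfl⟩ := Ideal.mem_span_singleton.1 hv
  rw [K, RingHom.mem_ker, map_mul, map_add, map_mul, map_natCast, WittVector.map_verschiebung, add_mul,
    SqZero.verschiebung_mul_eq_zero e1 e2 (coeff_map_mem h2 hpc hx), zero_add, mul_right_comm,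
    SqZero.p_mul_eq_zero e1 e2 (coeff_map_mem h2 hpc hx), zero_mul]

theorem map_shift {T : Type u} [CommRing T] (g : S →+* T) (x : WittVector p S) :
    WittVector.map g (x.shift 1) = (WittVector.map g x).shift 1 := by
  ext n
  rw [WittVector.map_coeff, shift_coeff, shift_coeff, WittVector.map_coeff]

theorem shift_mul_sub_mem {x : WittVector p S} (hx : x ∈ K p c) (a : WittVector p S) :
    (a * x).shift 1 - WittVector.frobenius a * x.shift 1 ∈ K p c' := by
  obtain ⟨e1, e2⟩ := map_sqZero h2 hpc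
  rw [K, RingHom.mem_ker, map_sub, map_mul, map_shift h2 hpc, map_shift h2 hpc, map_mul, ← DispLib.frobenius_map,
    SqZero.shift_mul e1 e2 (coeff_map_mem h2 hpc hx), sub_self]

theorem shift_add_sub_mem {x y : WittVector p S} (hx : x ∈ K p c) (hy : y ∈ K p c) :
    (x + y).shift 1 - (x.shift 1 + y.shift 1) ∈ K p c' := by
  obtain ⟨e1, e2⟩ := map_sqZero h2 hpc
  rw [K, RingHom.mem_ker, map_sub, map_add, map_shift h2 hpc, map_shift h2 hpc, map_shift h2 hpc, map_add,
    SqZero.shift_add e1 e2 (coeff_map_mem h2 hpc hx) (coeff_map_mem h2 hpc hy), sub_self]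

end Step

theorem shift_mem {c : Ideal S} {x : WittVector p S} (hx : x ∈ K p c) : x.shift 1 ∈ K p c :=
  mem_K.2 fun n => by rw [shift_coeff]; exact mem_K.1 hx _

variable {P : Type v} [AddCommGroup P] [Module (WittVector p S) P] {P' : Type w} [AddCommGroup P']
  [Module (WittVector p S) P']

/-- One step of rigidity. -/
theorem step (D : Display3n p S P) (D' : Display3n p S P') (hD : Dieu.IsDisplay D) (ψ : P →ₗ[WittVector p S] P')
    (hψQ : ∀ q : D.Q, ∃ h : ψ q ∈ D'.Q, ψ (D.Vinv q) = D'.Vinv ⟨ψ q, h⟩)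
    {c c' : Ideal S} (h2 : ∀ x ∈ c, ∀ y ∈ c, x * y ∈ c') (hpc : ∀ x ∈ c, (p : S) * x ∈ c') (hle : c' ≤ c)
    (hψ : ∀ x, ψ x ∈ K p c • (⊤ : Submodule (WittVector p S) P')) :
    ∀ x, ψ x ∈ K p c' • (⊤ : Submodule (WittVector p S) P') := by
  classical
  haveI := D'.finite
  haveI := D'.projective
  obtain ⟨L, T, hLT, hQ⟩ := D'.exists_normal
  have hLQ : L ≤ D'.Q := hQ.ge.trans' le_sup_left
  obtain ⟨n, π, hπ⟩ := Module.Finite.exists_fin' (WittVector p S) P'
  obtain ⟨s, hs⟩ := Module.projective_lifting_property π LinearMap.id hπ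
  let e : Fin n → P' := fun i => π (Pi.single i 1)
  have hse : ∀ x, ∑ i, s x i • e i = x := fun x => by
    conv_rhs => rw [← show π (s x) = x from LinearMap.congr_fun hs x, pi_eq_sum_univ' (s x)]
    simp [e]
  have hcoord : ∀ (d : Ideal S) (z : P') (i : Fin n), z ∈ K p d • (⊤ : Submodule (WittVector p S) P') → s z i ∈ K p d := by
    intro d z i hz
    refine Submodule.smul_induction_on hz (fun a ha y _ => ?_) fun a b ha hb => by rw [map_add]; exact add_mem ha hb
    rw [map_smul]
    exact Ideal.mul_mem_right _ _ ha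
  have hmem : ∀ (d : Ideal S) (f : Fin n → WittVector p S) (g : Fin n → P'), (∀ i, f i ∈ K p d) →
      ∑ i, f i • g i ∈ K p d • (⊤ : Submodule (WittVector p S) P') := fun d f g hf =>
    sum_mem fun i _ => Submodule.smul_mem_smul (hf i) Submodule.mem_top
  let pL : P' →ₗ[WittVector p S] P' := L.subtype.comp (L.projectionOnto T hLT)
  let pT : P' →ₗ[WittVector p S] P' := T.subtype.comp (T.projectionOnto L hLT.symm)
  have hsum : ∀ x, pL x + pT x = x := fun x => Submodule.projection_add_projection_eq_self hLT x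
  have hpres : ∀ (d : Ideal S) (g : P' →ₗ[WittVector p S] P') (z : P'), z ∈ K p d • (⊤ : Submodule (WittVector p S) P') →
      g z ∈ K p d • (⊤ : Submodule (WittVector p S) P') := fun d g z hz => by
    have h := Submodule.mem_map_of_mem (f := g) hz
    rw [Submodule.map_smul''] at h
    exact Submodule.smul_mono le_rfl le_top h
  let E : P' → P' := fun z => ∑ i, (s (pT z) i).shift 1 • D'.F (e i)
  have hEK : ∀ (d : Ideal S) z, z ∈ K p d • (⊤ : Submodule (WittVector p S) P') → E z ∈ K p d • (⊤ : Submodule (WittVector p S) P') :=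
    fun d z hz => hmem d _ _ fun i => shift_mem (hcoord d _ i (hpres d pT z hz))
  have hEadd : ∀ a b, a ∈ K p c • (⊤ : Submodule (WittVector p S) P') → b ∈ K p c • (⊤ : Submodule (WittVector p S) P') →
      E (a + b) - (E a + E b) ∈ K p c' • (⊤ : Submodule (WittVector p S) P') := by
    intro a b ha hb
    simp only [E, map_add, Pi.add_apply]
    rw [← Finset.sum_add_distrib, ← Finset.sum_sub_distrib]
    simp only [← add_smul, ← sub_smul]
    exact hmem c' _ _ fun i => shift_add_sub_mem h2 hpc (hcoord c _ i (hpres c pT a ha)) (hcoord c _ i (hpres c pT b hb))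
  have hEsmul : ∀ (r : WittVector p S) a, a ∈ K p c • (⊤ : Submodule (WittVector p S) P') →
      E (r • a) - WittVector.frobenius r • E a ∈ K p c' • (⊤ : Submodule (WittVector p S) P') := by
    intro r a ha
    simp only [E, map_smul, Pi.smul_apply, smul_eq_mul]
    rw [Finset.smul_sum, ← Finset.sum_sub_distrib]
    simp only [smul_smul, ← sub_smul]
    exact hmem c' _ _ fun i => shift_mul_sub_mem h2 hpc (hcoord c _ i (hpres c pT a ha)) r
  set mk := (K p c' • (⊤ : Submodule (WittVector p S) P')).mkQ with hmk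
  have hle' : K p c' • (⊤ : Submodule (WittVector p S) P') ≤ K p c • ⊤ :=
    Submodule.smul_mono (fun x hx => mem_K.2 fun i => hle (mem_K.1 hx i)) le_rfl
  have hEcongr : ∀ a b, a ∈ K p c • (⊤ : Submodule (WittVector p S) P') → b ∈ K p c • (⊤ : Submodule (WittVector p S) P') →
      mk a = mk b → mk (E a) = mk (E b) := by
    intro a b ha hb hab
    have hd : a - b ∈ K p c' • (⊤ : Submodule (WittVector p S) P') := (Submodule.Quotient.eq _).1 hab
    refine (Submodule.Quotient.eq _).2 ?_
    have h1 := hEadd b (a - b) hb (hle' hd)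
    rw [add_sub_cancel] at h1
    rw [show E a - E b = (E a - (E b + E (a - b))) + E (a - b) by abel]
    exact add_mem h1 (hEK c' _ hd)
  have hitK : ∀ (j : ℕ) z, z ∈ K p c • (⊤ : Submodule (WittVector p S) P') → E^[j] z ∈ K p c • (⊤ : Submodule (WittVector p S) P') := by
    intro j
    induction j with
    | zero => exact fun z hz => hz
    | succ j ih => intro z hz; rw [Function.iterate_succ_apply']; exact hEK c _ (ih z hz)
  have hitadd : ∀ (j : ℕ) a b, a ∈ K p c • (⊤ : Submodule (WittVector p S) P') → b ∈ K p c • (⊤ : Submodule (WittVector p S) P') →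
      mk (E^[j] (a + b)) = mk (E^[j] a) + mk (E^[j] b) := by
    intro j
    induction j with
    | zero => exact fun a b _ _ => map_add mk a b
    | succ j ih =>
      intro a b ha hb
      simp only [Function.iterate_succ_apply']
      rw [hEcongr _ _ (hitK j _ (add_mem ha hb)) (add_mem (hitK j a ha) (hitK j b hb)) (by rw [ih a b ha hb, map_add]),
        ← map_add]
      exact (Submodule.Quotient.eq _).2 (hEadd _ _ (hitK j a ha) (hitK j b hb))
  have hitsmul : ∀ (j : ℕ) (r : WittVector p S) a, a ∈ K p c • (⊤ : Submodule (WittVector p S) P') →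
      mk (E^[j] (r • a)) = ((WittVector.frobenius : WittVector p S →+* WittVector p S) ^ j) r • mk (E^[j] a) := by
    intro j
    induction j with
    | zero => exact fun r a _ => map_smul mk r a
    | succ j ih =>
      intro r a ha
      simp only [Function.iterate_succ_apply']
      rw [hEcongr _ _ (hitK j _ (Submodule.smul_mem _ r ha)) (Submodule.smul_mem _ _ (hitK j a ha)) (by rw [ih r a ha, map_smul]),
        pow_succ', RingHom.coe_mul, Function.comp_apply, ← map_smul]
      exact (Submodule.Quotient.eq _).2 (hEsmul _ _ (hitK j a ha))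
  let G : (j : ℕ) → P →ₛₗ[(WittVector.frobenius : WittVector p S →+* WittVector p S) ^ (j + 1)]
      (P' ⧸ K p c' • (⊤ : Submodule (WittVector p S) P')) := fun j =>
    { toFun := fun y => mk (E^[j + 1] (ψ y))
      map_add' := fun a b => by rw [map_add, hitadd _ _ _ (hψ a) (hψ b)]
      map_smul' := fun r a => by rw [map_smul, hitsmul _ _ _ (hψ a)] }
  have hG : ∀ j y, G j y = mk (E^[j + 1] (ψ y)) := fun _ _ => rfl
  clear_value G
  have hVinv : ∀ (z : P') (hzQ : z ∈ D'.Q), z ∈ K p c • (⊤ : Submodule (WittVector p S) P') → mk (D'.Vinv ⟨z, hzQ⟩) = mk (E z) := by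
    intro z hzQ hz
    have hLz : pL z ∈ D'.Q := hLQ (L.projectionOnto T hLT z).2
    have hTmem : pT z ∈ IV p S • T := by
      obtain ⟨l, hl, t, ht, rfl⟩ := Submodule.mem_sup.1 (hQ ▸ hzQ)
      have h0 : pT l = 0 := by
        show ((T.projectionOnto L hLT.symm (⟨l, hl⟩ : L)) : P') = 0
        rw [Submodule.projectionOnto_apply_right]; rfl
      have htT : t ∈ T := Submodule.smul_le_right ht
      have h1 : pT t = t := by
        show ((T.projectionOnto L hLT.symm (⟨t, htT⟩ : T)) : P') = t
        rw [Submodule.projectionOnto_apply_left]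
      rw [map_add, h0, zero_add, h1]
      exact ht
    have hTz : pT z ∈ D'.Q := hQ ▸ Submodule.mem_sup_right hTmem
    have e1 : D'.Vinv ⟨pT z, hTz⟩ = E z := by
      have hfix : ∀ t ∈ T, pT t = t := fun t ht => by
        show ((T.projectionOnto L hLT.symm (⟨t, ht⟩ : T)) : P') = t
        rw [Submodule.projectionOnto_apply_left]
      suffices h : ∀ y (hy : y ∈ IV p S • T) (hyQ : y ∈ D'.Q), D'.Vinv ⟨y, hyQ⟩ = ∑ i, (s y i).shift 1 • D'.F (e i) from
        h _ hTmem hTz
      intro y hy hyQ
      refine (IV_smul_induction D' T (C := fun y hyQ => (∀ i, s y i ∈ IV p S) ∧ D'.Vinv ⟨y, hyQ⟩ = ∑ i, (s y i).shift 1 • D'.F (e i))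
        (fun w t ht => ⟨fun i => ?_, ?_⟩) (fun a b ha hb h1 h3 => ⟨fun i => ?_, ?_⟩) hy hyQ).2
      · rw [map_smul]; exact Ideal.mul_mem_right _ _ (verschiebung_mem_IV p S w)
      · rw [D'.Vinv_verschiebung_smul]
        conv_lhs => rw [← hse t, map_sum, Finset.smul_sum]
        refine Finset.sum_congr rfl fun i _ => ?_
        rw [LinearMap.map_smulₛₗ D'.F, map_smul s, Pi.smul_apply, smul_eq_mul, ← WittVector.verschiebung_mul_frobenius, smul_smul]
        congr 1
        ext k
        rw [shift_coeff, add_comm, verschiebung_coeff_succ]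
      · rw [map_add]; exact add_mem (h1.1 i) (h3.1 i)
      · rw [show (⟨a + b, add_mem ha hb⟩ : D'.Q) = ⟨a, ha⟩ + ⟨b, hb⟩ from rfl, map_add, h1.2, h3.2, ← Finset.sum_add_distrib]
        refine Finset.sum_congr rfl fun i _ => ?_
        obtain ⟨u, hu⟩ := exists_verschiebung_eq (h1.1 i)
        obtain ⟨v, hv⟩ := exists_verschiebung_eq (h3.1 i)
        rw [map_add, Pi.add_apply, hu, hv, ← map_add, ← add_smul]
        congr 1
        ext1 k
        have e : ∀ q : WittVector p S, (WittVector.verschiebung q).shift 1 = q := fun q =>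
          WittVector.ext fun k => by rw [shift_coeff, add_comm, verschiebung_coeff_succ]
        rw [e, e, e]
    have hqL : ∀ i, pL (e i) ∈ D'.Q := fun i => hLQ (L.projectionOnto T hLT (e i)).2
    have e2 : D'.Vinv ⟨pL z, hLz⟩ ∈ K p c' • (⊤ : Submodule (WittVector p S) P') := by
      have hz' : (⟨pL z, hLz⟩ : D'.Q) = ∑ i, s z i • (⟨pL (e i), hqL i⟩ : D'.Q) := by
        apply Subtype.ext
        simp only [AddSubmonoidClass.coe_finsetSum, Submodule.coe_smul]
        conv_lhs => rw [← hse z, map_sum]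
        simp [map_smul]
      rw [hz', map_sum]
      refine sum_mem fun i _ => ?_
      rw [LinearMap.map_smulₛₗ]
      exact Submodule.smul_mem_smul (frobenius_mem h2 hpc (hcoord c z i hz)) Submodule.mem_top
    rw [show (⟨z, hzQ⟩ : D'.Q) = ⟨pL z, hLz⟩ + ⟨pT z, hTz⟩ from Subtype.ext (hsum z).symm, map_add, map_add, e1,
      show mk (D'.Vinv ⟨pL z, hLz⟩) = 0 from (Submodule.Quotient.mk_eq_zero _).2 e2, zero_add]
  clear_value E
  obtain ⟨Vs, hVs, n₀, hn₀⟩ := hD
  have h0 : ∀ x, mk (ψ x) = Dieu.BC.lift _ (G 0) (Dieu.vSharpPow Vs 0 x) := by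
    intro x
    suffices h : mk.comp ψ = (Dieu.BC.lift _ (G 0)).comp (Dieu.vSharpPow Vs 0) from LinearMap.congr_fun h x
    refine LinearMap.ext_on D.span_range_Vinv ?_
    rintro _ ⟨q, rfl⟩
    obtain ⟨hq, hq'⟩ := hψQ q
    have hV : Vs (D.Vinv q) = Dieu.BC.tmul (WittVector.frobenius : WittVector p S →+* WittVector p S) 1 (q : P) := by
      rw [← one_smul (WittVector p S) (D.Vinv q), hVs.app_smul_Vinv]
    rw [LinearMap.comp_apply, LinearMap.comp_apply, hq', hVinv _ hq (hψ _), Dieu.vSharpPow_zero_apply, hV,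
      Dieu.BC.castHom_tmul, Dieu.BC.lift_tmul, one_smul, hG, Function.iterate_one]
  have hkey : ∀ j x, mk (ψ x) = Dieu.BC.lift _ (G j) (Dieu.vSharpPow Vs j x) := by
    intro j
    induction j with
    | zero => exact h0
    | succ j ih =>
      intro x
      have hstep : ∀ u : Dieu.BC ((WittVector.frobenius : WittVector p S →+* WittVector p S) ^ (j + 1)) P,
          ∃ r ∈ K p c • (⊤ : Submodule (WittVector p S) P'), mk r = Dieu.BC.lift _ (G j) u ∧
            mk (E r) = Dieu.BC.lift _ (G (j + 1)) (Dieu.BC.castHom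
              (Dieu.comp_pow_eq_pow_succ (WittVector.frobenius : WittVector p S →+* WittVector p S) (j + 1))
              (Dieu.BC.push ((WittVector.frobenius : WittVector p S →+* WittVector p S) ^ (j + 1))
                (WittVector.frobenius : WittVector p S →+* WittVector p S) u)) := by
        intro u
        induction u using Dieu.BC.induction_on with
        | zero =>
          refine ⟨0, zero_mem _, by rw [map_zero, map_zero], ?_⟩
          rw [map_zero, map_zero, map_zero]
          exact (Submodule.Quotient.mk_eq_zero _).2 (hEK c' 0 (zero_mem _))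
        | tmul b v =>
          refine ⟨b • E^[j + 1] (ψ v), Submodule.smul_mem _ b (hitK _ _ (hψ v)), by
            rw [map_smul, Dieu.BC.lift_tmul, hG], ?_⟩
          rw [Dieu.BC.push_tmul, Dieu.BC.castHom_tmul, Dieu.BC.lift_tmul]
          rw [hG, Function.iterate_succ_apply' E (j + 1), ← map_smul]
          exact (Submodule.Quotient.eq _).2 (hEsmul b _ (hitK _ _ (hψ v)))
        | add u₁ u₂ h₁ h₃ =>
          obtain ⟨r₁, hr₁, e₁, f₁⟩ := h₁
          obtain ⟨r₂, hr₂, e₂, f₂⟩ := h₃
          refine ⟨r₁ + r₂, add_mem hr₁ hr₂, by rw [map_add, map_add, e₁, e₂], ?_⟩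
          rw [map_add, map_add, map_add, ← f₁, ← f₂, ← map_add]
          exact (Submodule.Quotient.eq _).2 (hEadd _ _ hr₁ hr₂)
      rw [h0, Dieu.vSharpPow_zero_apply, Dieu.vSharpPow_succ_apply]
      generalize Vs x = z
      induction z using Dieu.BC.induction_on with
      | zero => simp
      | tmul a y =>
        rw [Dieu.BC.castHom_tmul, Dieu.BC.lift_tmul, Dieu.BC.map_tmul, Dieu.BC.lift_tmul, map_smul, map_smul]
        congr 1
        obtain ⟨r, hr, e₁, f₁⟩ := hstep (Dieu.vSharpPow Vs j y)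
        rw [← f₁]
        rw [hG, zero_add, Function.iterate_one]
        exact hEcongr _ _ (hψ y) hr ((ih y).trans e₁.symm)
      | add z₁ z₂ k₁ k₂ => simp only [map_add, k₁, k₂]
  intro x
  rw [← Submodule.Quotient.mk_eq_zero]
  change mk (ψ x) = 0
  rw [hkey n₀ x]
  refine Submodule.smul_induction_on (hn₀ x) (fun a ha t _ => ?_) fun a b ha hb => by rw [map_add, ha, hb, add_zero]
  rw [map_smul]
  induction t using Dieu.BC.induction_on with
  | zero => rw [map_zero, smul_zero]
  | tmul b y =>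
    rw [Dieu.BC.lift_tmul]
    rw [hG, ← map_smul, ← map_smul, hmk, Submodule.mkQ_apply, Submodule.Quotient.mk_eq_zero]
    refine Submodule.smul_induction_on (Submodule.smul_mem _ b (hitK (n₀ + 1) _ (hψ y))) (fun k hk t _ => ?_)
      fun u v hu hv => by rw [smul_add]; exact add_mem hu hv
    rw [smul_smul]
    exact Submodule.smul_mem_smul (mul_mem h2 hpc ha hk) Submodule.mem_top
  | add t₁ t₂ k₁ k₂ => rw [map_add, smul_add, k₁ Submodule.mem_top, k₂ Submodule.mem_top, add_zero]

/-- The chain `c (i+1) = c i ^ 2 + p c i`. -/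
def chain (p : ℕ) (a : Ideal S) : ℕ → Ideal S
  | 0 => a
  | i + 1 => chain p a i * chain p a i ⊔ Ideal.span {(p : S)} * chain p a i

theorem chain_succ_le (a : Ideal S) (i : ℕ) : chain p a (i + 1) ≤ chain p a i :=
  sup_le Ideal.mul_le_left Ideal.mul_le_right

theorem exists_chain_eq_bot (h : IsNilpotent (p : S)) (a : Ideal S) (ha : IsNilpotent a) : ∃ N, chain p a N = ⊥ := by
  obtain ⟨m, hm⟩ := ha
  obtain ⟨l, hl⟩ := h
  have hb : IsNilpotent (a + Ideal.span {(p : S)}) :=
    Commute.isNilpotent_add (Commute.all _ _) ⟨m, hm⟩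
      ⟨l, by rw [Ideal.span_singleton_pow, hl, Ideal.span_singleton_zero]; rfl⟩
  obtain ⟨N, hN⟩ := hb
  rw [Submodule.add_eq_sup] at hN
  have key : ∀ i, chain p a i ≤ (a ⊔ Ideal.span {(p : S)}) ^ (i + 1) := by
    intro i
    induction i with
    | zero => rw [zero_add, pow_one]; exact le_sup_left
    | succ i ih =>
      refine sup_le ?_ ?_
      · calc chain p a i * chain p a i ≤ (a ⊔ Ideal.span {(p : S)}) ^ (i + 1) * (a ⊔ Ideal.span {(p : S)}) ^ (i + 1) :=
              mul_le_mul' ih ih
          _ ≤ _ := by rw [← pow_add]; exact Ideal.pow_le_pow_right (by omega)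
      · calc Ideal.span {(p : S)} * chain p a i ≤ (a ⊔ Ideal.span {(p : S)}) * (a ⊔ Ideal.span {(p : S)}) ^ (i + 1) :=
              mul_le_mul' le_sup_right ih
          _ = _ := by rw [← pow_succ']
  refine ⟨N, eq_bot_iff.2 ((key N).trans ((Ideal.pow_le_pow_right (Nat.le_succ N)).trans ?_))⟩
  rw [hN]
  exact le_rfl

theorem K_bot : K p (⊥ : Ideal S) = ⊥ :=
  eq_bot_iff.2 fun x hx => WittVector.ext fun i => by rw [WittVector.zero_coeff]; exact (Submodule.mem_bot _).1 (mem_K.1 hx i)

theorem exists_pow_mul_eq_zero (h : IsNilpotent (p : S)) (a : Ideal S) (ha : IsNilpotent a) :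
    ∃ N, ∀ x ∈ K p a, (p : WittVector p S) ^ N * x = 0 := by
  obtain ⟨N, hN⟩ := exists_chain_eq_bot h a ha
  refine ⟨N, fun x hx => ?_⟩
  suffices hi : ∀ i, (p : WittVector p S) ^ i * x ∈ K p (chain p a i) by
    have := hi N
    rwa [hN, K_bot, Submodule.mem_bot] at this
  intro i
  induction i with
  | zero => rw [pow_zero, one_mul]; exact hx
  | succ i ih =>
    rw [pow_succ', mul_assoc]
    exact mul_mem (c := chain p a i) (fun u hu v hv => Ideal.mem_sup_left (Ideal.mul_mem_mul hu hv))
      (fun u hu => Ideal.mem_sup_right (Ideal.mul_mem_mul (Ideal.mem_span_singleton_self _) hu))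
      (Ideal.mem_sup_right (Ideal.mem_span_singleton_self _)) ih

/-- A homomorphism of displays which vanishes modulo a nilpotent ideal vanishes. -/
theorem eq_zero (h : IsNilpotent (p : S)) (a : Ideal S) (ha : IsNilpotent a) (D : Display3n p S P)
    (D' : Display3n p S P') (hD : Dieu.IsDisplay D) (ψ : P →ₗ[WittVector p S] P')
    (hψQ : ∀ q : D.Q, ∃ h : ψ q ∈ D'.Q, ψ (D.Vinv q) = D'.Vinv ⟨ψ q, h⟩)
    (hψ : ∀ x, ψ x ∈ K p a • (⊤ : Submodule (WittVector p S) P')) : ψ = 0 := by
  obtain ⟨N, hN⟩ := exists_chain_eq_bot h a ha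
  suffices hi : ∀ i x, ψ x ∈ K p (chain p a i) • (⊤ : Submodule (WittVector p S) P') by
    ext x
    have := hi N x
    rwa [hN, K_bot, Submodule.bot_smul, Submodule.mem_bot] at this
  intro i
  induction i with
  | zero => exact hψ
  | succ i ih =>
    exact step D D' hD ψ hψQ (fun u hu v hv => Ideal.mem_sup_left (Ideal.mul_mem_mul hu hv))
      (fun u hu => Ideal.mem_sup_right (Ideal.mul_mem_mul (Ideal.mem_span_singleton_self _) hu))
      (chain_succ_le a i) ih

theorem mem_K_smul_of_forall {d : Ideal S} {n : ℕ} (s : Fin n → P' →ₗ[WittVector p S] WittVector p S) (e : Fin n → P')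
    (hse : ∀ x, ∑ i, s i x • e i = x) {z : P'} (hz : ∀ i, s i z ∈ K p d) :
    z ∈ K p d • (⊤ : Submodule (WittVector p S) P') := by
  rw [← hse z]
  exact sum_mem fun i _ => Submodule.smul_mem_smul (hz i) Submodule.mem_top

end Groth.Agent.DispLib.Rigid
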