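import Groth.Agent.DispLib.Basic
import Mathlib.RingTheory.WittVector.Truncated

/-! # Iterates of `V^#` -/

universe u v

noncomputable section

namespace Groth.Agent.DispLib.VPow

open WittVector W4c1extbt610

variable {p : ℕ} [hp : Fact p.Prime] {R : Type u} [CommRing R]
variable {P : Type v} [AddCommGroup P] [Module (WittVector p R) P]


theorem comp_pow {a b c : ℕ} (h : a + b = c) : RingHom.comp ((WittVector.frobenius : WittVector p R →+* WittVector p R) ^ a) ((WittVector.frobenius : WittVector p R →+* WittVector p R) ^ b) = (WittVector.frobenius : WittVector p R →+* WittVector p R) ^ c := by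
  rw [← h, pow_add]; rfl

/-- `c ⊗ z ↦ (WittVector.frobenius : WittVector p R →+* WittVector p R)^a c ⊗ z`. -/
def sh {a b c : ℕ} (h : a + b = c) : Dieu.BC ((WittVector.frobenius : WittVector p R →+* WittVector p R) ^ b) P →ₛₗ[(WittVector.frobenius : WittVector p R →+* WittVector p R) ^ a] Dieu.BC ((WittVector.frobenius : WittVector p R →+* WittVector p R) ^ c) P where
  toFun z := Dieu.BC.castHom (comp_pow h) (Dieu.BC.push ((WittVector.frobenius : WittVector p R →+* WittVector p R) ^ b) ((WittVector.frobenius : WittVector p R →+* WittVector p R) ^ a) z)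
  map_add' x y := by rw [map_add, map_add]
  map_smul' r z := by rw [LinearMap.map_smulₛₗ (Dieu.BC.push ((WittVector.frobenius : WittVector p R →+* WittVector p R) ^ b) ((WittVector.frobenius : WittVector p R →+* WittVector p R) ^ a)), map_smul]

theorem sh_tmul {a b c : ℕ} (h : a + b = c) (r : WittVector p R) (z : P) :
    sh h (Dieu.BC.tmul ((WittVector.frobenius : WittVector p R →+* WittVector p R) ^ b) r z) = Dieu.BC.tmul ((WittVector.frobenius : WittVector p R →+* WittVector p R) ^ c) (((WittVector.frobenius : WittVector p R →+* WittVector p R) ^ a) r) z := by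
  show Dieu.BC.castHom (comp_pow h) (Dieu.BC.push ((WittVector.frobenius : WittVector p R →+* WittVector p R) ^ b) ((WittVector.frobenius : WittVector p R →+* WittVector p R) ^ a) _) = _
  rw [Dieu.BC.push_tmul, Dieu.BC.castHom_tmul]

variable (Vs : P →ₗ[WittVector p R] Dieu.BC (WittVector.frobenius : WittVector p R →+* WittVector p R) P)

/-- `r ⊗ y ↦ r • (WittVector.frobenius : WittVector p R →+* WittVector p R)^(n+1)(V^{(m+1)#} y)`. -/
def Phi {n m N : ℕ} (h : (n + 1) + (m + 1) = N + 1) :
    Dieu.BC ((WittVector.frobenius : WittVector p R →+* WittVector p R) ^ (n + 1)) P →ₗ[WittVector p R] Dieu.BC ((WittVector.frobenius : WittVector p R →+* WittVector p R) ^ (N + 1)) P :=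
  Dieu.BC.lift ((WittVector.frobenius : WittVector p R →+* WittVector p R) ^ (n + 1)) ((sh h).comp (Dieu.vSharpPow Vs m))

theorem Phi_tmul {n m N : ℕ} (h : (n + 1) + (m + 1) = N + 1) (r : WittVector p R) (y : P) :
    Phi Vs h (Dieu.BC.tmul ((WittVector.frobenius : WittVector p R →+* WittVector p R) ^ (n + 1)) r y) = r • sh h (Dieu.vSharpPow Vs m y) := by
  rw [Phi, Dieu.BC.lift_tmul]; rfl

theorem vSharpPow_add (n m N : ℕ) (h : (n + 1) + (m + 1) = N + 1) (x : P) :
    Dieu.vSharpPow Vs N x = Phi Vs h (Dieu.vSharpPow Vs n x) := by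
  induction n generalizing N x with
  | zero =>
    obtain rfl : N = m + 1 := by omega
    rw [Dieu.vSharpPow_succ_apply, Dieu.vSharpPow_zero_apply]
    generalize Vs x = z
    induction z using Dieu.BC.induction_on with
    | zero => simp
    | tmul c y =>
      rw [Dieu.BC.map_tmul, Dieu.BC.lift_tmul, map_smul, Dieu.BC.castHom_tmul, Phi_tmul]
      congr 1
    | add z₁ z₂ h₁ h₂ => simp only [map_add, h₁, h₂]
  | succ n ih =>
    obtain ⟨N', rfl⟩ : ∃ N', N = N' + 1 := ⟨n + 1 + m, by omega⟩
    have h' : (n + 1) + (m + 1) = N' + 1 := by omega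
    rw [Dieu.vSharpPow_succ_apply, Dieu.vSharpPow_succ_apply]
    generalize Vs x = z
    induction z using Dieu.BC.induction_on with
    | zero => simp
    | tmul c y =>
      rw [Dieu.BC.map_tmul, Dieu.BC.map_tmul, Dieu.BC.lift_tmul, Dieu.BC.lift_tmul, map_smul, map_smul, map_smul, ih N' h']
      congr 1
      generalize Dieu.vSharpPow Vs n y = u
      induction u using Dieu.BC.induction_on with
      | zero => simp
      | tmul e v =>
        rw [Phi_tmul, Dieu.BC.push_tmul, Dieu.BC.castHom_tmul, Phi_tmul, LinearMap.map_smulₛₗ, map_smul]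
        congr 1
        generalize Dieu.vSharpPow Vs m v = t
        induction t using Dieu.BC.induction_on with
        | zero => simp
        | tmul a b =>
          rw [sh_tmul, Dieu.BC.push_tmul, Dieu.BC.castHom_tmul, sh_tmul, pow_succ' (WittVector.frobenius : WittVector p R →+* WittVector p R) (n + 1), RingHom.coe_mul, Function.comp_apply]
        | add t₁ t₂ h₁ h₂ => simp only [map_add, h₁, h₂]
      | add u₁ u₂ h₁ h₂ => simp only [map_add, h₁, h₂]
    | add z₁ z₂ h₁ h₂ => simp only [map_add, h₁, h₂]

/-- `I + (p)`. -/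
abbrev J (p : ℕ) [Fact p.Prime] (R : Type u) [CommRing R] : Ideal (WittVector p R) :=
  IV p R ⊔ Ideal.span {(p : WittVector p R)}

theorem map_J_le : (J p R).map (WittVector.frobenius : WittVector p R →+* WittVector p R) ≤ J p R := by
  rw [Ideal.map_sup, Ideal.map_span (S := WittVector p R), Set.image_singleton, map_natCast]
  refine sup_le (Ideal.map_le_iff_le_comap.2 fun a ha => ?_) le_sup_right
  obtain ⟨w, rfl⟩ := exists_verschiebung_eq ha
  rw [Ideal.mem_comap, WittVector.frobenius_verschiebung]
  exact Ideal.mem_sup_right (Ideal.mul_mem_left _ _ (Ideal.subset_span rfl))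

theorem frobenius_pow_mem (i k : ℕ) {a : WittVector p R} (ha : a ∈ J p R ^ i) : ((WittVector.frobenius : WittVector p R →+* WittVector p R) ^ k) a ∈ J p R ^ i := by
  induction k generalizing a with
  | zero => exact ha
  | succ k ih =>
    rw [pow_succ, RingHom.coe_mul, Function.comp_apply]
    refine ih ?_
    have h := Ideal.mem_map_of_mem (WittVector.frobenius : WittVector p R →+* WittVector p R) ha
    rw [Ideal.map_pow] at h
    exact Ideal.pow_right_mono map_J_le i h

theorem vSharpPow_mem (n : ℕ) (hn : ∀ x, Dieu.vSharpPow Vs n x ∈ J p R • (⊤ : Submodule (WittVector p R) _)) (i : ℕ) :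
    ∃ N, ∀ x, Dieu.vSharpPow Vs N x ∈ J p R ^ i • (⊤ : Submodule (WittVector p R) (Dieu.BC ((WittVector.frobenius : WittVector p R →+* WittVector p R) ^ (N + 1)) P)) := by
  induction i with
  | zero => exact ⟨0, fun x => by rw [pow_zero, Ideal.one_eq_top, Submodule.top_smul]; trivial⟩
  | succ i ih =>
    obtain ⟨m, hm⟩ := ih
    have h : (n + 1) + (m + 1) = (n + m + 1) + 1 := by omega
    refine ⟨n + m + 1, fun x => ?_⟩
    rw [vSharpPow_add Vs n m (n + m + 1) h x, pow_succ' (J p R), Submodule.mul_smul]
    have key : ∀ z, Phi Vs h z ∈ J p R ^ i • (⊤ : Submodule (WittVector p R) (Dieu.BC ((WittVector.frobenius : WittVector p R →+* WittVector p R) ^ (n + m + 1 + 1)) P)) := by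
      intro z
      induction z using Dieu.BC.induction_on with
      | zero => rw [map_zero]; exact zero_mem _
      | tmul r y =>
        rw [Phi_tmul]
        refine Submodule.smul_mem _ _ (Submodule.smul_induction_on (hm y) (fun a ha t _ => ?_) fun a b ha hb => by rw [map_add]; exact add_mem ha hb)
        rw [LinearMap.map_smulₛₗ]
        exact Submodule.smul_mem_smul (frobenius_pow_mem i _ ha) Submodule.mem_top
      | add z₁ z₂ h₁ h₂ => rw [map_add]; exact add_mem h₁ h₂
    refine Submodule.smul_induction_on (hn x) (fun a ha t _ => ?_) fun a b ha hb => by rw [map_add]; exact add_mem ha hb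
    rw [map_smul]
    exact Submodule.smul_mem_smul ha (key t)

theorem exists_pow_le_ker (h : IsNilpotent (p : R)) (n : ℕ) :
    ∃ i, J p R ^ i ≤ RingHom.ker (WittVector.truncate (p := p) (R := R) n) := by
  obtain ⟨M, hM⟩ := h
  have hp' : ∀ j, ∀ i < j, ((p : WittVector p R) ^ (M * j)).coeff i = 0 := by
    intro j
    induction j with
    | zero => intro i hi; exact absurd hi (Nat.not_lt_zero i)
    | succ j ih =>
      intro i hi
      have hz := WittVector.eq_iterate_verschiebung ih
      have hlin : ∀ (t : ℕ) (y : WittVector p R), WittVector.verschiebung^[t] (y * (p : WittVector p R) ^ M) =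
          WittVector.verschiebung^[t] y * (p : WittVector p R) ^ M := by
        intro t y
        induction t with
        | zero => rfl
        | succ t iht =>
          rw [Function.iterate_succ_apply', Function.iterate_succ_apply', iht, ← WittVector.verschiebung_mul_frobenius, map_pow, map_natCast]
      rw [Nat.mul_succ, pow_add, hz, ← hlin]
      rcases lt_or_eq_of_le (Nat.lt_succ_iff.1 hi) with hij | rfl
      · exact WittVector.iterate_verschiebung_coeff_eq_zero _ hij
      · have h1 := WittVector.iterate_verschiebung_coeff (((p : WittVector p R) ^ (M * i)).shift i * (p : WittVector p R) ^ M) i 0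
        rw [zero_add] at h1
        rw [h1]
        change WittVector.constantCoeff ((((p : WittVector p R) ^ (M * i)).shift i * (p : WittVector p R) ^ M : WittVector p R)) = (0 : R)
        rw [map_mul, map_pow, map_natCast, hM, mul_zero]
  have hsq : J p R ^ 2 ≤ Ideal.span {(p : WittVector p R)} := by
    rw [pow_two, Submodule.mul_le]
    intro a ha b hb
    obtain ⟨a₁, ha₁, a₂, ha₂, rfl⟩ := Submodule.mem_sup.1 ha
    obtain ⟨b₁, hb₁, b₂, hb₂, rfl⟩ := Submodule.mem_sup.1 hb
    rw [add_mul, mul_add]
    refine add_mem (add_mem ?_ (Ideal.mul_mem_left _ _ hb₂)) (Ideal.mul_mem_right _ _ ha₂)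
    obtain ⟨u, rfl⟩ := exists_verschiebung_eq ha₁
    obtain ⟨v, rfl⟩ := exists_verschiebung_eq hb₁
    rw [← WittVector.verschiebung_mul_frobenius, WittVector.frobenius_verschiebung, ← mul_assoc,
      show u * v * (p : WittVector p R) = u * v * (WittVector.frobenius : WittVector p R →+* WittVector p R) (p : WittVector p R) by rw [map_natCast],
      WittVector.verschiebung_mul_frobenius]
    exact Ideal.mul_mem_left _ _ (Ideal.subset_span rfl)
  refine ⟨2 * (M * n), ?_⟩
  rw [pow_mul]
  refine (Ideal.pow_right_mono hsq _).trans ?_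
  rw [Ideal.span_singleton_pow, Ideal.span_singleton_le_iff_mem, WittVector.mem_ker_truncate]
  exact hp' n

end Groth.Agent.DispLib.VPow
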